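import Cfsg.Agent.S0197
import Cfsg.Prelude.Def_Transfer

set_option autoImplicit false
set_option maxHeartbeats 1000000

/-!
Groups without a subgroup of index two in which an involution has centralizer `GL₂(3)`: all involutions are
conjugate and the group is simple.
-/

namespace CfsgLib.L33Invol

open Cfsg.Agent.S0197

theorem no_index_two_of_residual {G : Type*} [Group G] [Finite G] (hO : Cfsg.pResidual 2 G = ⊤) :
    ∀ M : Subgroup G, M.Normal → M.index ≠ 2 := by
  intro M hM h2
  have hle : Cfsg.pResidual 2 G ≤ M := (Subgroup.closure_le _).mpr fun g hg => by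
    obtain ⟨k, hk⟩ := Nat.odd_iff.mpr (Nat.odd_iff.mp (Nat.coprime_two_right.mp hg))
    have h : (g : G ⧸ M) ^ orderOf g = 1 := by
      rw [← QuotientGroup.mk_pow, pow_orderOf_eq_one, QuotientGroup.mk_one]
    have hsq : (g : G ⧸ M) ^ 2 = 1 := by
      rw [← h2]; exact pow_card_eq_one'
    rw [hk, pow_succ, pow_mul, hsq, one_pow, one_mul] at h
    exact (QuotientGroup.eq_one_iff g).mp h
  rw [hO, top_le_iff] at hle
  rw [hle, Subgroup.index_top] at h2
  omega

theorem cube_cent : ∀ m ∈ GLset, m * m * m = 1 → m ≠ 1 →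
    (GLset.filter fun x => m * x = x * m).card = 6 := by decide +kernel

theorem cube_conj : ∀ m ∈ GLset, m * m * m = 1 → m ≠ 1 → ∃ x ∈ GLset, x * (!![1, 1; 0, 1] : M2) = m * x := by
  decide +kernel

theorem cube_inv : ∀ m ∈ GLset, m * m * m = 1 → m ≠ 1 → ∃ s ∈ invs, s ≠ -1 ∧ s * m * s = m * m := by
  decide +kernel

theorem gen_invs : ∀ m ∈ GLset, ∃ a ∈ insert 1 invs, ∃ b ∈ insert 1 invs, ∃ c ∈ insert 1 invs, m = a * b * c := by
  decide +kernel

theorem gen_GL : ∀ m ∈ insert 1 invs, m ∈ GLset := by decide +kernel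

theorem shear_mem : (!![1, 1; 0, 1] : M2) ∈ GLset := by decide +kernel

theorem invs_GLset : ∀ m ∈ invs, m ∈ GLset := by decide +kernel

/-- The hypothesis. -/
structure Ctx (G : Type*) [Group G] where
  t : G
  ht : orderOf t = 2
  e : Subgroup.centralizer ({t} : Set G) ≃* Matrix.GeneralLinearGroup (Fin 2) (ZMod 3)
  hno : ∀ M : Subgroup G, M.Normal → M.index ≠ 2

variable {G : Type*} [Group G] [Finite G] (C : Ctx G)

/-- The centralizer of the involution. -/
abbrev Ctx.D : Subgroup G := Subgroup.centralizer ({C.t} : Set G)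

theorem Ctx.memD (g : G) : g ∈ C.D ↔ g * C.t = C.t * g := Subgroup.mem_centralizer_singleton_iff

theorem Ctx.tt : C.t * C.t = 1 := by rw [← pow_two, ← C.ht, pow_orderOf_eq_one]

theorem Ctx.t_ne : C.t ≠ 1 := fun h => by
  have := C.ht; rw [h, orderOf_one] at this; exact absurd this (by norm_num)

/-- The matrices. -/
def Ctx.mat : C.D →* M2 := (Units.coeHom M2).comp C.e.toMonoidHom

theorem Ctx.mat_inj : Function.Injective C.mat := fun _ _ h => C.e.injective (Units.ext h)

theorem Ctx.mat_GL (x : C.D) : C.mat x ∈ GLset := by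
  simp only [GLset, Finset.mem_filter, Finset.mem_univ, true_and]
  exact ((Matrix.isUnit_iff_isUnit_det _).1 (C.e x).isUnit).ne_zero

theorem Ctx.mat_surj {m : M2} (hm : m ∈ GLset) : ∃ x, C.mat x = m := by
  simp only [GLset, Finset.mem_filter, Finset.mem_univ, true_and] at hm
  exact ⟨C.e.symm ((Matrix.isUnit_iff_isUnit_det m).2 (IsUnit.mk0 _ hm)).unit, by simp [Ctx.mat]⟩

theorem Ctx.mat_invs {x : C.D} (h : x * x = 1) (h1 : x ≠ 1) : C.mat x ∈ invs := by
  simp only [invs, Finset.mem_filter, Finset.mem_univ, true_and]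
  exact ⟨by rw [← map_mul, h, map_one], fun h' => h1 (C.mat_inj (h'.trans (map_one _).symm))⟩

/-- The involution in its centralizer. -/
def Ctx.tD : C.D := ⟨C.t, (C.memD _).2 rfl⟩

theorem Ctx.mat_t : C.mat C.tD = -1 := by
  refine facts_center _ (C.mat_invs (Subtype.ext C.tt) fun h => C.t_ne (congrArg Subtype.val h)) fun m hm => ?_
  obtain ⟨x, rfl⟩ := C.mat_surj hm
  rw [← map_mul, ← map_mul]
  exact congrArg C.mat (Subtype.ext ((C.memD x).1 x.2).symm)

theorem Ctx.card_filter (p : M2 → Prop) [DecidablePred p] :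
    Nat.card {x : C.D // p (C.mat x)} = (GLset.filter p).card := by
  classical
  rw [← Fintype.card_coe, ← Nat.card_eq_fintype_card]
  refine Nat.card_eq_of_bijective (fun x => ⟨C.mat x.1, Finset.mem_filter.mpr ⟨C.mat_GL _, x.2⟩⟩)
    ⟨fun a b h => Subtype.ext (C.mat_inj (congrArg Subtype.val h)), fun m => ?_⟩
  obtain ⟨x, hx⟩ := C.mat_surj (Finset.mem_filter.mp m.2).1
  exact ⟨⟨x, by rw [hx]; exact (Finset.mem_filter.mp m.2).2⟩, Subtype.ext hx⟩

theorem Ctx.card_D : Nat.card C.D = 48 := by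
  have h := C.card_filter fun _ => True
  rw [Finset.filter_true, facts_sum.2.2.2.2.1] at h
  rw [← h]
  exact Nat.card_congr (Equiv.subtypeUnivEquiv fun _ => trivial).symm

/-- The elements of the centralizer commuting with one of them. -/
theorem Ctx.card_inf {v : G} (hv : v ∈ C.D) :
    Nat.card ↥(C.D ⊓ Subgroup.centralizer ({v} : Set G)) =
      (GLset.filter fun x => C.mat ⟨v, hv⟩ * x = x * C.mat ⟨v, hv⟩).card := by
  classical
  rw [← C.card_filter]
  exact Nat.card_congr
    { toFun := fun x => ⟨⟨x.1, x.2.1⟩, by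
        rw [← map_mul, ← map_mul]
        exact congrArg C.mat (Subtype.ext (Subgroup.mem_centralizer_singleton_iff.mp x.2.2).symm)⟩
      invFun := fun x => ⟨(x.1 : G), x.1.2, Subgroup.mem_centralizer_singleton_iff.mpr (by
        have h : (⟨v, hv⟩ : C.D) * x.1 = x.1 * ⟨v, hv⟩ := C.mat_inj (by rw [map_mul, map_mul]; exact x.2)
        exact (congrArg Subtype.val h).symm)⟩
      left_inv := fun _ => rfl
      right_inv := fun _ => rfl }

/-- A Sylow 2-subgroup lies in the centralizer. -/
theorem Ctx.sylow_le : ∃ P : Sylow 2 G, (P : Subgroup G) ≤ C.D ∧ Nat.card P = 16 ∧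
    ∀ v : G, orderOf v = 2 → (∀ g ∈ (P : Subgroup G), g * v = v * g) → v ∈ (P : Subgroup G) → v = C.t := by
  classical
  haveI : Fact (Nat.Prime 2) := ⟨Nat.prime_two⟩
  have h16 : 2 ^ 4 ∣ Nat.card C.D := by rw [C.card_D]; norm_num
  obtain ⟨P0, hP0⟩ := Sylow.exists_subgroup_card_pow_prime 2 h16
  have hP0p : IsPGroup 2 P0 := IsPGroup.of_card hP0
  obtain ⟨P, hP⟩ := (hP0p.map C.D.subtype).exists_le_sylow
  have hmapcard : Nat.card (P0.map C.D.subtype) = 16 := by
    rw [Subgroup.card_map_of_injective C.D.subtype_injective, hP0]; norm_num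
  have small : ∀ v : G, orderOf v = 2 → (∀ g ∈ P0.map C.D.subtype, g * v = v * g) → v ∈ C.D → v = C.t := by
    intro v hv2 hvc hvD
    by_contra hne
    have hm : C.mat ⟨v, hvD⟩ ≠ -1 := fun h => hne (congrArg Subtype.val (C.mat_inj (h.trans C.mat_t.symm)))
    have hc4 := facts_cent _ (C.mat_invs (x := ⟨v, hvD⟩)
      (Subtype.ext (by show v * v = 1; rw [← pow_two, ← hv2, pow_orderOf_eq_one]))
      fun h => by rw [show v = 1 from congrArg Subtype.val h, orderOf_one] at hv2; exact absurd hv2 (by norm_num)) hm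
    have hle : P0.map C.D.subtype ≤ C.D ⊓ Subgroup.centralizer ({v} : Set G) := fun g hg =>
      ⟨Subgroup.map_subtype_le _ hg, Subgroup.mem_centralizer_singleton_iff.mpr (hvc g hg)⟩
    have h := Subgroup.card_dvd_of_le hle
    rw [C.card_inf hvD, hc4, hmapcard] at h
    norm_num at h
  have htP0 : C.tD ∈ P0 := by
    haveI : (Subgroup.zpowers C.tD).Normal := ⟨fun a ha g => by
      obtain ⟨k, rfl⟩ := ha
      have hc : Commute g (C.tD ^ k) := (show Commute g C.tD from Subtype.ext ((C.memD g).1 g.2)).zpow_right k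
      rw [hc.eq, mul_inv_cancel_right]
      exact ⟨k, rfl⟩⟩
    have hp : IsPGroup 2 (Subgroup.zpowers C.tD) :=
      IsPGroup.of_card (n := 1) (by rw [Nat.card_zpowers, pow_one, ← Subgroup.orderOf_coe]; exact C.ht)
    have hsup := hp.to_sup_of_normal_left hP0p
    obtain ⟨k, hk⟩ := hsup.exists_card_eq
    have hd := Subgroup.card_subgroup_dvd_card (Subgroup.zpowers C.tD ⊔ P0)
    have hle := Subgroup.card_dvd_of_le (le_sup_right : P0 ≤ Subgroup.zpowers C.tD ⊔ P0)
    rw [hk, C.card_D] at hd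
    rw [hk, hP0] at hle
    have hk4 : 4 ≤ k := (Nat.pow_dvd_pow_iff_le_right one_lt_two).1 hle
    have hk5 : k < 5 := by
      by_contra h
      have := (Nat.pow_dvd_pow 2 (not_lt.1 h)).trans hd
      norm_num at this
    have : P0 = Subgroup.zpowers C.tD ⊔ P0 :=
      Subgroup.eq_of_le_of_card_ge le_sup_right (by rw [hk, hP0]; exact Nat.pow_le_pow_right (by norm_num) (by omega))
    rw [this]
    exact (le_sup_left : Subgroup.zpowers C.tD ≤ _) (Subgroup.mem_zpowers _)
  have hPD : (P : Subgroup G) ≤ C.D := by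
    haveI : Nontrivial (P : Subgroup G) := (Subgroup.nontrivial_iff_ne_bot _).2 fun h => by
      have h1 := Subgroup.card_dvd_of_le hP
      rw [h, Subgroup.card_bot, hmapcard] at h1
      norm_num at h1
    haveI := P.isPGroup'.center_nontrivial
    obtain ⟨w, hw⟩ := exists_prime_orderOf_dvd_card' (G := Subgroup.center (P : Subgroup G)) 2 (by
      obtain ⟨k, hk0, hk⟩ := (P.isPGroup'.to_subgroup (Subgroup.center _)).nontrivial_iff_card.1 inferInstance
      rw [hk]; exact dvd_pow_self 2 hk0.ne')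
    have hv2 : orderOf ((w : (P : Subgroup G)) : G) = 2 := by rw [Subgroup.orderOf_coe, Subgroup.orderOf_coe, hw]
    have hvc : ∀ g ∈ (P : Subgroup G), g * ((w : (P : Subgroup G)) : G) = ((w : (P : Subgroup G)) : G) * g :=
      fun g hg => congrArg Subtype.val (Subgroup.mem_center_iff.1 w.2 ⟨g, hg⟩)
    have hvD : ((w : (P : Subgroup G)) : G) ∈ C.D := (C.memD _).2 (hvc C.t (hP ⟨C.tD, htP0, rfl⟩)).symm
    have hveq := small _ hv2 (fun g hg => hvc g (hP hg)) hvD
    intro g hg
    rw [C.memD, ← hveq]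
    exact hvc g hg
  have hPcard : Nat.card P = 16 := by
    have h1 : 16 ∣ Nat.card (P : Subgroup G) := hmapcard ▸ Subgroup.card_dvd_of_le hP
    have h2 := Subgroup.card_dvd_of_le hPD
    rw [C.card_D] at h2
    obtain ⟨k, hk⟩ := P.isPGroup'.exists_card_eq
    rw [hk] at h1 h2 ⊢
    have hk4 : 4 ≤ k := (Nat.pow_dvd_pow_iff_le_right one_lt_two).1 h1
    have hk5 : k < 5 := by
      by_contra h
      have := (Nat.pow_dvd_pow 2 (not_lt.1 h)).trans h2
      norm_num at this
    interval_cases k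
    rfl
  exact ⟨P, hPD, hPcard, fun v hv2 hvc hvP => small v hv2 (fun g hg => hvc g (hP hg)) (hPD hvP)⟩

/-- All involutions are conjugate. -/
theorem Ctx.fusion (u : G) (hu : u * u = 1) (hu1 : u ≠ 1) : IsConj C.t u := by
  classical
  obtain ⟨P, hPD, hPcard, -⟩ := C.sylow_le
  let detHom : C.D →* ℤ :=
    { toFun := fun x => sgn (C.mat x).det
      map_one' := by rw [map_one, Matrix.det_one]; rfl
      map_mul' := fun a b => by
        have ha := C.mat_GL a; have hb := C.mat_GL b
        simp only [GLset, Finset.mem_filter, Finset.mem_univ, true_and] at ha hb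
        rw [map_mul, Matrix.det_mul, facts_vec.2.2.2 _ _ ha hb] }
  have hsgn : ∀ z : ZMod 3, z ≠ 0 → (sgn z = 1 → z = 1) ∧ (sgn z ≠ 1 → z = -1) := by decide
  let detU : C.D →* ℤˣ := detHom.toHomUnits
  set K0 : Subgroup G := detU.ker.map C.D.subtype with hK0
  have hQi : ((P : Subgroup G) ⊓ K0).relIndex (P : Subgroup G) = 2 := by
    rw [Subgroup.inf_relIndex_left]
    have hdvd : K0.relIndex (P : Subgroup G) ∣ 2 := by
      have h := Subgroup.relIndex_dvd_index_of_normal detU.ker ((P : Subgroup G).subgroupOf C.D)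
      have hKs : detU.ker = K0.subgroupOf C.D := by
        rw [hK0, Subgroup.subgroupOf, Subgroup.comap_map_eq_self_of_injective C.D.subtype_injective]
      rw [hKs, Subgroup.relIndex_subgroupOf hPD, ← hKs, Subgroup.index_ker] at h
      refine h.trans ?_
      rw [show (2 : ℕ) = Nat.card ℤˣ by simp]
      exact Subgroup.card_subgroup_dvd_card _
    rcases (Nat.dvd_prime Nat.prime_two).1 hdvd with h | h
    · exfalso
      rw [Subgroup.relIndex_eq_one] at h
      have h1 := Subgroup.card_dvd_of_le h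
      rw [hPcard, hK0, Subgroup.card_map_of_injective C.D.subtype_injective] at h1
      have h2 := Subgroup.card_mul_index detU.ker
      rw [C.card_D, Subgroup.index_ker] at h2
      obtain ⟨x, hx⟩ := C.mat_surj (m := !![1, 0; 0, -1]) (by decide +kernel)
      have hne : detU x ≠ 1 := fun h => by
        have h' : sgn (C.mat x).det = 1 := congrArg Units.val h
        rw [hx] at h'
        revert h'; decide +kernel
      have hr : 2 ≤ Nat.card detU.range := by
        haveI : Nontrivial detU.range := ⟨⟨⟨detU x, ⟨x, rfl⟩⟩, 1, fun h => hne (congrArg Subtype.val h)⟩⟩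
        exact Finite.one_lt_card
      obtain ⟨q, hq⟩ := h1
      rw [hq] at h2
      rcases q with _ | _ | q
      · simp at h2
      · nlinarith [(Nat.le_of_dvd Nat.card_pos (Subgroup.card_subgroup_dvd_card detU.range)).trans
          (le_of_eq (by simp : Nat.card ℤˣ = 2))]
      · nlinarith
    · exact h
  obtain ⟨g, hg, -⟩ := CfsgLib.TransferExtremal.exists_conj C.hno P _ inf_le_left hQi u (by rw [pow_two, hu])
  obtain ⟨⟨v, hvD⟩, hvk, hve⟩ := (Subgroup.mem_inf.1 hg).2
  refine isConj_iff.2 ⟨g⁻¹, ?_⟩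
  have hve' : v = g * u * g⁻¹ := hve
  have hvv : (⟨v, hvD⟩ : C.D) * ⟨v, hvD⟩ = 1 := Subtype.ext (by
    show v * v = 1; rw [hve', conj_mul, hu, mul_one, mul_inv_cancel])
  have hv1 : (⟨v, hvD⟩ : C.D) ≠ 1 := fun h => hu1 (conj_eq_one_iff.1 (hve'.symm.trans (congrArg Subtype.val h)))
  have hdet : (C.mat ⟨v, hvD⟩).det = 1 := (hsgn _ (by
    have := C.mat_GL ⟨v, hvD⟩; simpa [GLset] using this)).1 (congrArg Units.val (MonoidHom.mem_ker.1 hvk))
  have hvt : (⟨v, hvD⟩ : C.D) = C.tD := C.mat_inj ((facts_det _ (C.mat_invs hvv hv1) hdet).trans C.mat_t.symm)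
  have hvt' : v = C.t := congrArg Subtype.val hvt
  rw [← hvt', hve']; group

include C in
theorem Ctx.card_cent_invol {i : G} (hi : orderOf i = 2) :
    Nat.card (Subgroup.centralizer ({i} : Set G)) = 48 := by
  obtain ⟨g, hg⟩ := isConj_iff.1 (C.fusion i (by rw [← pow_two, ← hi, pow_orderOf_eq_one])
    fun h => by rw [h, orderOf_one] at hi; norm_num at hi)
  rw [← C.card_D]
  refine Nat.card_congr ((MulAut.conj g⁻¹).toEquiv.subtypeEquiv fun x => ?_)
  simp only [Subgroup.mem_centralizer_singleton_iff, MulEquiv.toEquiv_eq_coe, MulEquiv.coe_toEquiv,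
    MulAut.conj_apply, inv_inv, ← hg]
  constructor <;> intro h
  · calc g⁻¹ * x * g * C.t = g⁻¹ * (x * (g * C.t * g⁻¹)) * g := by group
      _ = g⁻¹ * (g * C.t * g⁻¹ * x) * g := by rw [h]
      _ = C.t * (g⁻¹ * x * g) := by group
  · calc x * (g * C.t * g⁻¹) = g * (g⁻¹ * x * g * C.t) * g⁻¹ := by group
      _ = g * (C.t * (g⁻¹ * x * g)) * g⁻¹ := by rw [h]
      _ = g * C.t * g⁻¹ * x := by group

include C in
theorem Ctx.simple : IsSimpleGroup G := by
  classical
  haveI : Fact (Nat.Prime 2) := ⟨Nat.prime_two⟩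
  haveI : Nontrivial G := ⟨⟨C.t, 1, C.t_ne⟩⟩
  refine ⟨fun N hN => or_iff_not_imp_left.mpr fun hbot => ?_⟩
  obtain ⟨P, hPD, hPcard, hPc⟩ := C.sylow_le
  by_cases he : 2 ∣ Nat.card N
  · obtain ⟨x, hx⟩ := exists_prime_orderOf_dvd_card' 2 he
    rw [← Subgroup.orderOf_coe] at hx
    have hall : ∀ u : G, orderOf u = 2 → u ∈ N := by
      intro u hu
      have hsq : ∀ {y : G}, orderOf y = 2 → y * y = 1 ∧ y ≠ 1 := fun {y} hy =>
        ⟨by rw [← pow_two, ← hy, pow_orderOf_eq_one], fun h => by rw [h, orderOf_one] at hy; norm_num at hy⟩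
      obtain ⟨g, hg⟩ := isConj_iff.1 (((C.fusion _ (hsq hx).1 (hsq hx).2).symm).trans (C.fusion u (hsq hu).1 (hsq hu).2))
      rw [← hg]
      exact hN.conj_mem _ x.2 g
    have hDN : C.D ≤ N := by
      intro y hy
      have hin : ∀ z : C.D, C.mat z ∈ invs → (z : G) ∈ N := by
        intro z hz
        simp only [invs, Finset.mem_filter, Finset.mem_univ, true_and] at hz
        refine hall _ ?_
        rw [Subgroup.orderOf_coe, ← orderOf_injective C.mat C.mat_inj]
        exact orderOf_eq_prime (by rw [pow_two]; exact hz.1) hz.2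
      obtain ⟨a, ha, b, hb, c, hc, habc⟩ := gen_invs _ (C.mat_GL ⟨y, hy⟩)
      obtain ⟨x1, rfl⟩ := C.mat_surj (gen_GL a ha)
      obtain ⟨x2, rfl⟩ := C.mat_surj (gen_GL b hb)
      obtain ⟨x3, rfl⟩ := C.mat_surj (gen_GL c hc)
      have hmem : ∀ z : C.D, C.mat z ∈ insert (1 : M2) invs → (z : G) ∈ N := by
        intro z hz
        rcases Finset.mem_insert.mp hz with h | h
        · rw [C.mat_inj (h.trans (map_one _).symm)]; exact one_mem N
        · exact hin z h
      rw [← map_mul, ← map_mul] at habc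
      rw [show y = ((x1 * x2 * x3 : C.D) : G) from congrArg Subtype.val (C.mat_inj habc)]
      exact mul_mem (mul_mem (hmem _ ha) (hmem _ hb)) (hmem _ hc)
    have hPN : (P : Subgroup G) ≤ N := hPD.trans hDN
    have hnorm : Subgroup.normalizer ((P : Subgroup G) : Set G) ≤ C.D := by
      intro g hg
      have hgt : g * C.t * g⁻¹ = C.t := by
        have htP : C.t ∈ (P : Subgroup G) := by
          obtain ⟨w, hw⟩ := exists_prime_orderOf_dvd_card' (G := Subgroup.center (P : Subgroup G)) 2 (by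
            haveI : Nontrivial (P : Subgroup G) := Finite.one_lt_card_iff_nontrivial.mp (by rw [hPcard]; norm_num)
            haveI := P.isPGroup'.center_nontrivial
            obtain ⟨k, hk0, hk⟩ := (P.isPGroup'.to_subgroup (Subgroup.center _)).nontrivial_iff_card.1 inferInstance
            rw [hk]; exact dvd_pow_self 2 hk0.ne')
          rw [← hPc ((w : (P : Subgroup G)) : G) (by rw [Subgroup.orderOf_coe, Subgroup.orderOf_coe, hw])
            (fun x hx => congrArg Subtype.val (Subgroup.mem_center_iff.1 w.2 ⟨x, hx⟩)) w.1.2]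
          exact w.1.2
        refine hPc _ (by rw [← MulAut.conj_apply, MulEquiv.orderOf_eq, C.ht]) (fun x hx => ?_)
          ((Subgroup.mem_normalizer_iff.mp hg _).mp htP)
        have hx' : g⁻¹ * x * g ∈ (P : Subgroup G) :=
          (Subgroup.mem_normalizer_iff.mp hg _).mpr (by simpa [mul_assoc] using hx)
        have := (C.memD _).1 (hPD hx')
        calc x * (g * C.t * g⁻¹) = g * (g⁻¹ * x * g * C.t) * g⁻¹ := by group
          _ = g * (C.t * (g⁻¹ * x * g)) * g⁻¹ := by rw [this]
          _ = g * C.t * g⁻¹ * x := by group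
      exact (C.memD g).2 (mul_inv_eq_iff_eq_mul.1 hgt)
    haveI := hN
    have hfr := Sylow.normalizer_sup_eq_top' P hPN
    exact top_le_iff.mp (hfr ▸ sup_le (hnorm.trans hDN) le_rfl)
  · -- an odd normal subgroup is trivial
    exfalso
    apply hbot
    have htriv : ∀ x : G, orderOf x = 2 → ∀ n ∈ N, x * n = n * x → n = 1 := by
      intro x hx n hn hcomm
      have hord : orderOf n ∣ 48 := by
        rw [← C.card_cent_invol hx]
        exact (Subgroup.orderOf_mk n (Subgroup.mem_centralizer_singleton_iff.mpr hcomm.symm)) ▸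
          orderOf_dvd_natCard _
      have hordN : orderOf n ∣ Nat.card N := by
        rw [← Subgroup.orderOf_mk n hn]; exact orderOf_dvd_natCard _
      have hco : Nat.Coprime (orderOf n) (2 ^ 4) :=
        Nat.Coprime.pow_right 4 (by
          rw [Nat.coprime_two_right, Nat.odd_iff]
          by_contra h
          exact he ((Nat.dvd_of_mod_eq_zero (by omega)).trans hordN))
      have h3 : orderOf n ∣ 3 := hco.dvd_of_dvd_mul_left (by simpa using hord)
      rcases (Nat.dvd_prime Nat.prime_three).mp h3 with h | h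
      · exact orderOf_eq_one_iff.mp h
      · -- no normal subgroup of order three inside the centralizer
        exfalso
        obtain ⟨g, hg⟩ := isConj_iff.1 (C.fusion x (by rw [← pow_two, ← hx, pow_orderOf_eq_one])
          (fun h => by rw [h, orderOf_one] at hx; norm_num at hx))
        have hm : g⁻¹ * n * g ∈ N := hN.conj_mem' n hn g
        have hmD : g⁻¹ * n * g ∈ C.D := (C.memD _).2 (by
          calc g⁻¹ * n * g * C.t = g⁻¹ * (n * (g * C.t * g⁻¹)) * g := by group
            _ = g⁻¹ * ((g * C.t * g⁻¹) * n) * g := by rw [hg, hcomm]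
            _ = C.t * (g⁻¹ * n * g) := by group)
        have hm3 : orderOf (⟨g⁻¹ * n * g, hmD⟩ : C.D) = 3 := by
          rw [Subgroup.orderOf_mk, show g⁻¹ * n * g = MulAut.conj g⁻¹ n by simp, MulEquiv.orderOf_eq, h]
        set m := C.mat ⟨g⁻¹ * n * g, hmD⟩
        have hkey : ∀ m ∈ GLset, m * m * m = 1 → m ≠ 1 →
            ∃ y ∈ GLset, ∃ y' ∈ GLset, y * y' = 1 ∧
              ((y * m * y') * m) ^ 3 ≠ 1 := by decide +kernel
        obtain ⟨y, hy, y', hy', hyy, hne⟩ := hkey m (C.mat_GL _)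
          (by
            show C.mat _ * C.mat _ * C.mat _ = 1
            have h3' := pow_orderOf_eq_one (⟨g⁻¹ * n * g, hmD⟩ : C.D)
            rw [hm3, pow_succ, pow_two] at h3'
            rw [← map_mul, ← map_mul, h3', map_one])
          (fun h1 => by
            have := C.mat_inj (h1.trans (map_one _).symm)
            rw [this, orderOf_one] at hm3; norm_num at hm3)
        obtain ⟨Y, rfl⟩ := C.mat_surj hy
        obtain ⟨Y', rfl⟩ := C.mat_surj hy'
        have hY : Y' = Y⁻¹ := eq_inv_of_mul_eq_one_right (C.mat_inj (by rw [map_mul, hyy, map_one]))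
        have hmem : ((Y * ⟨g⁻¹ * n * g, hmD⟩ * Y' * ⟨g⁻¹ * n * g, hmD⟩ : C.D) : G) ∈ N ⊓ C.D := by
          refine ⟨?_, Subtype.prop _⟩
          rw [hY]
          exact mul_mem (hN.conj_mem _ hm _) hm
        have h48 := Subgroup.card_dvd_of_le (inf_le_right : N ⊓ C.D ≤ C.D)
        have hNdvd := Subgroup.card_dvd_of_le (inf_le_left : N ⊓ C.D ≤ N)
        rw [C.card_D] at h48
        have hco' : Nat.Coprime (Nat.card ↥(N ⊓ C.D)) (2 ^ 4) := Nat.Coprime.pow_right 4 (by
          rw [Nat.coprime_two_right, Nat.odd_iff]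
          by_contra h'
          exact he ((Nat.dvd_of_mod_eq_zero (by omega)).trans hNdvd))
        have hd3 : Nat.card ↥(N ⊓ C.D) ∣ 3 := hco'.dvd_of_dvd_mul_left (by simpa using h48)
        have hpow := (orderOf_dvd_iff_pow_eq_one).mp ((orderOf_dvd_natCard (⟨_, hmem⟩ : ↥(N ⊓ C.D))).trans hd3)
        apply hne
        rw [show C.mat Y * m * C.mat Y' * m = C.mat (Y * ⟨g⁻¹ * n * g, hmD⟩ * Y' * ⟨g⁻¹ * n * g, hmD⟩) by
          rw [map_mul, map_mul, map_mul], ← map_pow, ← map_one C.mat]
        have hv := congrArg Subtype.val hpow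
        rw [SubgroupClass.coe_pow] at hv
        exact congrArg C.mat (Subtype.ext (by rw [SubgroupClass.coe_pow]; exact hv))
    obtain ⟨s, hs⟩ := C.mat_surj (m := !![1, 0; 0, -1]) (by decide +kernel)
    have hso : orderOf (s : G) = 2 := by
      rw [Subgroup.orderOf_coe, ← orderOf_injective C.mat C.mat_inj, hs]
      exact orderOf_eq_prime (by decide +kernel) (by decide +kernel)
    have hst : orderOf (C.t * s) = 2 := by
      rw [show C.t * (s : G) = ((C.tD * s : C.D) : G) from rfl, Subgroup.orderOf_coe,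
        ← orderOf_injective C.mat C.mat_inj, map_mul, C.mat_t, hs]
      exact orderOf_eq_prime (by decide +kernel) (by decide +kernel)
    have hinv : ∀ x : G, orderOf x = 2 → ∀ n ∈ N, x * n * x⁻¹ = n⁻¹ := by
      intro x hx n hn
      have hxx : x * x = 1 := by rw [← pow_two, ← hx, pow_orderOf_eq_one]
      have hxi : x⁻¹ = x := inv_eq_of_mul_eq_one_right hxx
      let f : N → N := fun a => ⟨(a : G)⁻¹ * (x * a * x⁻¹), mul_mem (inv_mem a.2) (hN.conj_mem _ a.2 x)⟩
      have hf : Function.Injective f := by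
        intro a b hab
        have h := congrArg Subtype.val hab
        refine Subtype.ext (mul_inv_eq_one.mp (htriv x hx _ (mul_mem b.2 (inv_mem a.2)) ?_)).symm
        have h' : (b : G) * (a : G)⁻¹ * (x * a * x⁻¹) = x * b * x⁻¹ := by
          rw [mul_assoc, show (a : G)⁻¹ * (x * a * x⁻¹) = (b : G)⁻¹ * (x * b * x⁻¹) from h]; group
        calc x * ((b : G) * (a : G)⁻¹) = (x * b * x⁻¹) * (x * (a : G)⁻¹) := by group
          _ = ((b : G) * (a : G)⁻¹ * (x * a * x⁻¹)) * (x * (a : G)⁻¹) := by rw [h']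
          _ = (b : G) * (a : G)⁻¹ * x := by group
      obtain ⟨a, ha⟩ := (Finite.injective_iff_surjective.mp hf) ⟨n, hn⟩
      have ha' : (a : G)⁻¹ * (x * a * x⁻¹) = n := congrArg Subtype.val ha
      rw [← ha']
      simp only [hxi]
      calc x * ((a : G)⁻¹ * (x * a * x)) * x = x * (a : G)⁻¹ * x * a * (x * x) := by group
        _ = x * (a : G)⁻¹ * x * a := by rw [hxx, mul_one]
        _ = ((a : G)⁻¹ * (x * a * x))⁻¹ := by
          rw [mul_inv_rev, mul_inv_rev, mul_inv_rev, hxi, inv_inv]; group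
    refine (Subgroup.eq_bot_iff_forall _).mpr fun n hn => htriv _ hst n hn ?_
    have h1 := hinv _ hso n hn
    have h2 := hinv _ C.ht n⁻¹ (inv_mem hn)
    rw [inv_inv] at h2
    calc C.t * s * n = C.t * (s * n * (s : G)⁻¹) * C.t⁻¹ * (C.t * s) := by group
      _ = n * (C.t * s) := by rw [h1, h2]

end CfsgLib.L33Invol
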