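import Cfsg.Agent.Lib.L33Invol.Parabolic
import Cfsg.Agent.Lib.L33Graph.Main

set_option autoImplicit false
set_option maxHeartbeats 1000000

/-!
The projective plane of order three of a simple group of order 5616.
-/

namespace CfsgLib.L33Invol

open CfsgLib.L33Graph

/-- The four invariant difference sets. -/
def diffSet (t : Fin 4) : Finset (ZMod 13) := ![{0, 1, 3, 9}, {0, 2, 5, 6}, {0, 4, 10, 12}, {0, 7, 8, 11}] t

/-- Points. -/
def ptTab (t : Fin 4) (u : ZMod 13) : Fin 13 :=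
  Fin.ofNat 13 (((![[0, 1, 2, 4, 6, 3, 11, 12, 5, 7, 9, 10, 8], [0, 12, 1, 5, 2, 7, 4, 9, 6, 10, 3, 8, 11],
    [0, 6, 5, 8, 4, 12, 10, 2, 11, 9, 1, 3, 7], [0, 2, 6, 11, 5, 9, 8, 1, 4, 3, 12, 7, 10]] :
      Fin 4 → List ℕ) t).getD u.val 0)

/-- Lines. -/
def lnTab (t : Fin 4) (u : ZMod 13) : Fin 13 :=
  Fin.ofNat 13 (((![[2, 0, 7, 11, 9, 8, 4, 12, 10, 3, 6, 5, 1], [2, 12, 0, 10, 7, 3, 11, 6, 9, 5, 8, 1, 4],
    [2, 9, 10, 1, 11, 12, 5, 7, 4, 6, 0, 8, 3], [2, 7, 9, 4, 10, 6, 1, 0, 11, 8, 12, 3, 5]] :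
      Fin 4 → List ℕ) t).getD u.val 0)

theorem tab_inj : ∀ t, Function.Injective (ptTab t) ∧ Function.Injective (lnTab t) := by decide +kernel

theorem tab_spec : ∀ t u v, inc (ptTab t u) (lnTab t v) = true ↔ u - v ∈ diffSet t := by decide +kernel

/-- The unions of the orbits of multiplication by three. -/
def orbitUnion (b0 b1 b2 b4 b7 : Bool) : Finset (ZMod 13) :=
  (if b0 then {0} else ∅) ∪ (if b1 then {1, 3, 9} else ∅) ∪ (if b2 then {2, 6, 5} else ∅) ∪
    (if b4 then {4, 12, 10} else ∅) ∪ (if b7 then {7, 8, 11} else ∅)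

theorem orbitUnion_classify : ∀ b0 b1 b2 b4 b7, (orbitUnion b0 b1 b2 b4 b7).card = 4 →
    ∃ t, orbitUnion b0 b1 b2 b4 b7 = diffSet t := by decide +kernel

theorem mem_orbitUnion : ∀ b0 b1 b2 b4 b7 (i : ZMod 13), i ∈ orbitUnion b0 b1 b2 b4 b7 ↔
    ((i = 0 ∧ b0 = true) ∨ ((i = 1 ∨ i = 3 ∨ i = 9) ∧ b1 = true) ∨ ((i = 2 ∨ i = 6 ∨ i = 5) ∧ b2 = true) ∨
      ((i = 4 ∨ i = 12 ∨ i = 10) ∧ b4 = true) ∨ ((i = 7 ∨ i = 8 ∨ i = 11) ∧ b7 = true)) := by
  intro b0 b1 b2 b4 b7 i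
  cases b0 <;> cases b1 <;> cases b2 <;> cases b4 <;> cases b7 <;> simp [orbitUnion, or_assoc] <;> tauto

theorem orbit_cases : ∀ i : ZMod 13, i = 0 ∨ (i = 1 ∨ i = 3 ∨ i = 9) ∨ (i = 2 ∨ i = 6 ∨ i = 5) ∨
    (i = 4 ∨ i = 12 ∨ i = 10) ∨ (i = 7 ∨ i = 8 ∨ i = 11) := by decide +kernel

theorem diff_classify (S : Finset (ZMod 13)) (h4 : S.card = 4) (h3 : ∀ i ∈ S, 3 * i ∈ S) :
    ∃ t, S = diffSet t := by
  have hiff : ∀ i, 3 * i ∈ S ↔ i ∈ S := fun i => ⟨fun h => by
    have e : (3 : ZMod 13) * (3 * (3 * i)) = i := by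
      rw [← mul_assoc, ← mul_assoc, show (3 : ZMod 13) * 3 * 3 = 1 by decide, one_mul]
    rw [← e]; exact h3 _ (h3 _ h), h3 i⟩
  have key : S = orbitUnion (decide ((0 : ZMod 13) ∈ S)) (decide ((1 : ZMod 13) ∈ S)) (decide ((2 : ZMod 13) ∈ S))
      (decide ((4 : ZMod 13) ∈ S)) (decide ((7 : ZMod 13) ∈ S)) := by
    ext i
    simp only [mem_orbitUnion, decide_eq_true_eq]
    have e1 : ∀ x y : ZMod 13, 3 * x = y → (y ∈ S ↔ x ∈ S) := fun x y h => h ▸ hiff x
    have a3 := e1 1 3 (by decide); have a9 := e1 3 9 (by decide)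
    have a6 := e1 2 6 (by decide); have a5 := e1 6 5 (by decide)
    have a12 := e1 4 12 (by decide); have a10 := e1 12 10 (by decide)
    have a8 := e1 7 8 (by decide); have a11 := e1 8 11 (by decide)
    constructor
    · intro hi
      rcases orbit_cases i with rfl | h | h | h | h
      · exact Or.inl ⟨rfl, hi⟩
      · refine Or.inr (Or.inl ⟨h, ?_⟩); rcases h with rfl | rfl | rfl <;> simp_all
      · refine Or.inr (Or.inr (Or.inl ⟨h, ?_⟩)); rcases h with rfl | rfl | rfl <;> simp_all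
      · refine Or.inr (Or.inr (Or.inr (Or.inl ⟨h, ?_⟩))); rcases h with rfl | rfl | rfl <;> simp_all
      · refine Or.inr (Or.inr (Or.inr (Or.inr ⟨h, ?_⟩))); rcases h with rfl | rfl | rfl <;> simp_all
    · rintro (⟨rfl, h⟩ | ⟨h', h⟩ | ⟨h', h⟩ | ⟨h', h⟩ | ⟨h', h⟩)
      · exact h
      all_goals rcases h' with rfl | rfl | rfl <;> simp_all
  rw [key] at h4 ⊢
  exact orbitUnion_classify _ _ _ _ _ h4

variable {G : Type*} [Group G] [Finite G]

/-- The cyclic coordinates of a coset space of index 13. -/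
theorem exists_coord (hG : Nat.card G = 5616) {P : Subgroup G} (hP : Nat.card P = 432) {a w : G}
    (ha : orderOf a = 13) (hw : w ^ 3 = 1) (hwa : w * a * w⁻¹ = a ^ 3) :
    ∃ x : ZMod 13 ≃ G ⧸ P, (∀ u : ZMod 13, a • x u = x (u + 1)) ∧ ∀ u : ZMod 13, w • x u = x (3 * u) := by
  classical
  haveI : Fact (Nat.Prime 3) := ⟨Nat.prime_three⟩
  have hcard : Nat.card (G ⧸ P) = 13 := by
    have := P.card_mul_index
    rw [hP, hG] at this
    rw [← Subgroup.index_eq_card]
    omega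
  have hW : IsPGroup 3 (Subgroup.zpowers w) := by
    rw [IsPGroup.iff_card]
    rcases (Nat.dvd_prime Nat.prime_three).mp (orderOf_dvd_of_pow_eq_one hw) with h | h
    · exact ⟨0, by rw [Nat.card_zpowers, h, pow_zero]⟩
    · exact ⟨1, by rw [Nat.card_zpowers, h, pow_one]⟩
  obtain ⟨p0, hp0⟩ := hW.nonempty_fixed_point_of_prime_not_dvd_card (G ⧸ P) (by rw [hcard]; norm_num)
  have hwp : w • p0 = p0 := hp0 ⟨w, Subgroup.mem_zpowers w⟩
  have hmod : ∀ n : ℕ, a ^ n = a ^ ((n : ZMod 13)).val := fun n => by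
    rw [ZMod.val_natCast, pow_eq_pow_iff_modEq, ha]; exact (Nat.mod_modEq n 13).symm
  let f : ZMod 13 → G ⧸ P := fun u => a ^ u.val • p0
  have hfix : ∀ n : ℕ, a ^ n • p0 = p0 → (n : ZMod 13) = 0 := by
    intro n hn
    obtain ⟨q, rfl⟩ := QuotientGroup.mk_surjective p0
    rw [MulAction.Quotient.smul_mk, QuotientGroup.eq] at hn
    simp only [smul_eq_mul] at hn
    have hmem : (q⁻¹ * a ^ n * q)⁻¹ ∈ P := by
      rw [show (q⁻¹ * a ^ n * q)⁻¹ = (a ^ n * q)⁻¹ * q by group]; exact hn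
    have h432 : orderOf (a ^ n) ∣ 432 := by
      have h := orderOf_dvd_natCard (⟨_, hmem⟩ : P)
      rw [Subgroup.orderOf_mk, orderOf_inv, hP,
        show q⁻¹ * a ^ n * q = MulAut.conj q⁻¹ (a ^ n) by simp, MulEquiv.orderOf_eq] at h
      exact h
    have h13 : orderOf (a ^ n) ∣ 13 := ha ▸ orderOf_pow_dvd n
    have := orderOf_eq_one_iff.mp (Nat.eq_one_of_dvd_coprimes (by norm_num : Nat.Coprime 13 432) h13 h432)
    rw [← orderOf_dvd_iff_pow_eq_one, ha] at this
    exact (ZMod.natCast_eq_zero_iff _ _).mpr this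
  have hinj : Function.Injective f := by
    intro u v huv
    have h : a ^ (u.val + (13 - v.val)) • p0 = p0 := by
      rw [show a ^ (u.val + (13 - v.val)) = a ^ (13 - v.val) * a ^ u.val by rw [← pow_add, add_comm], mul_smul,
        show a ^ u.val • p0 = a ^ v.val • p0 from huv, ← mul_smul, ← pow_add,
        Nat.sub_add_cancel (ZMod.val_lt v).le, ← ha, pow_orderOf_eq_one, one_smul]
    have := hfix _ h
    rw [Nat.cast_add, Nat.cast_sub (ZMod.val_lt v).le, ZMod.natCast_zmod_val, ZMod.natCast_zmod_val,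
      ZMod.natCast_self, zero_sub, ← sub_eq_add_neg, sub_eq_zero] at this
    exact this
  have hbij : Function.Bijective f :=
    (Nat.bijective_iff_injective_and_card f).mpr ⟨hinj, by rw [hcard, Nat.card_zmod]⟩
  refine ⟨Equiv.ofBijective f hbij, fun u => ?_, fun u => ?_⟩
  · show a • a ^ u.val • p0 = a ^ (u + 1).val • p0
    rw [← mul_smul, ← pow_succ', hmod (u.val + 1), Nat.cast_add, ZMod.natCast_zmod_val, Nat.cast_one]
  · show w • a ^ u.val • p0 = a ^ (3 * u).val • p0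
    have h : w * a ^ u.val = a ^ (3 * u.val) * w := by
      rw [pow_mul, ← hwa, conj_pow]; group
    rw [← mul_smul, h, mul_smul, hwp, hmod (3 * u.val), Nat.cast_mul, ZMod.natCast_zmod_val, Nat.cast_ofNat]

/-- Incidence of cosets. -/
def Meet (P L : Subgroup G) (p : G ⧸ P) (l : G ⧸ L) : Prop := ∃ g : G, (g : G ⧸ P) = p ∧ (g : G ⧸ L) = l

omit [Finite G] in
theorem Meet.smul {P L : Subgroup G} {p : G ⧸ P} {l : G ⧸ L} (c : G) (h : Meet P L p l) :
    Meet P L (c • p) (c • l) := by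
  obtain ⟨g, rfl, rfl⟩ := h
  exact ⟨c * g, rfl, rfl⟩

omit [Finite G] in
theorem meet_smul_iff {P L : Subgroup G} {p : G ⧸ P} {l : G ⧸ L} (c : G) :
    Meet P L (c • p) (c • l) ↔ Meet P L p l :=
  ⟨fun h => by simpa using h.smul c⁻¹, fun h => h.smul c⟩

theorem meet_count {P L : Subgroup G} (hL : Nat.card L = 432) (hPL : Nat.card ↥(P ⊓ L) = 108) (l : G ⧸ L) :
    {p : G ⧸ P | Meet P L p l}.ncard = 4 := by
  obtain ⟨g0, rfl⟩ := QuotientGroup.mk_surjective l
  have hset : {p : G ⧸ P | Meet P L p (g0 : G ⧸ L)} = (g0 • ·) '' MulAction.orbit L ((1 : G) : G ⧸ P) := by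
    ext p
    constructor
    · rintro ⟨g, hp, hl⟩
      refine ⟨((g0⁻¹ * g : G) : G ⧸ P), ⟨⟨g0⁻¹ * g, QuotientGroup.eq.mp hl.symm⟩, ?_⟩, ?_⟩
      · show ((g0⁻¹ * g * 1 : G) : G ⧸ P) = _
        rw [mul_one]
      · show ((g0 * (g0⁻¹ * g) : G) : G ⧸ P) = p
        rw [mul_inv_cancel_left, hp]
    · rintro ⟨_, ⟨l, rfl⟩, rfl⟩
      refine ⟨g0 * (l : G), ?_, QuotientGroup.eq.mpr ?_⟩
      · show ((g0 * (l : G) : G) : G ⧸ P) = ((g0 * ((l : G) * 1) : G) : G ⧸ P)
        rw [mul_one]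
      · rw [mul_inv_rev, inv_mul_cancel_right]; exact inv_mem l.2
  have hstab : MulAction.stabilizer L ((1 : G) : G ⧸ P) = P.subgroupOf L := by
    ext l
    rw [MulAction.mem_stabilizer_iff, Subgroup.mem_subgroupOf]
    show (((l : G) * 1 : G) : G ⧸ P) = _ ↔ _
    rw [mul_one, QuotientGroup.eq]
    simp
  rw [hset, Set.ncard_image_of_injective _ (MulAction.injective g0), ← MulAction.index_stabilizer, hstab]
  have h := (P.subgroupOf L).card_mul_index
  rw [← Subgroup.inf_subgroupOf_right, Nat.card_congr (Subgroup.subgroupOfEquivOfLe inf_le_right).toEquiv, hPL,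
    hL] at h
  rw [← Subgroup.inf_subgroupOf_right]
  omega

theorem iso_SL33 (hs : IsSimpleGroup G) (hG : Nat.card G = 5616) {P L : Subgroup G} (hP : Nat.card P = 432)
    (hL : Nat.card L = 432) (hPL : Nat.card ↥(P ⊓ L) = 108) {a w : G} (ha : orderOf a = 13) (hw : w ^ 3 = 1)
    (hwa : w * a * w⁻¹ = a ^ 3) : Nonempty (G ≃* SL33) := by
  classical
  obtain ⟨x, hxa, hxw⟩ := exists_coord hG hP ha hw hwa
  obtain ⟨y, hya, hyw⟩ := exists_coord hG hL ha hw hwa
  let S : Finset (ZMod 13) := Finset.univ.filter fun u => Meet P L (x u) (y 0)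
  have hS4 : S.card = 4 := by
    rw [← meet_count hL hPL (y 0), ← Set.ncard_coe_finset, ← Set.ncard_image_of_injective _ x.injective]
    congr 1
    ext p
    simp only [S, Finset.coe_filter, Finset.mem_univ, true_and, Set.mem_image, Set.mem_setOf_eq]
    exact ⟨by rintro ⟨u, hu, rfl⟩; exact hu, fun h => ⟨x.symm p, by rwa [x.apply_symm_apply], x.apply_symm_apply p⟩⟩
  have hS3 : ∀ i ∈ S, 3 * i ∈ S := by
    intro i hi
    simp only [S, Finset.mem_filter, Finset.mem_univ, true_and] at hi ⊢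
    have h := hi.smul w
    rwa [hxw, hyw, mul_zero] at h
  obtain ⟨t, ht⟩ := diff_classify S hS4 hS3
  have htr : ∀ u v : ZMod 13, Meet P L (x u) (y v) ↔ u - v ∈ S := by
    have hpx : ∀ (n : ℕ) (u : ZMod 13), a ^ n • x u = x (u + n) ∧ a ^ n • y u = y (u + n) := by
      intro n
      induction n with
      | zero => intro u; simp
      | succ n ih =>
        intro u
        rw [pow_succ', mul_smul, mul_smul, (ih u).1, (ih u).2, hxa, hya, Nat.cast_succ, add_assoc]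
        exact ⟨rfl, rfl⟩
    intro u v
    rw [← meet_smul_iff (a ^ (-v).val), (hpx _ u).1, (hpx _ v).2, ZMod.natCast_zmod_val, add_neg_cancel,
      ← sub_eq_add_neg]
    simp [S]
  let e : Fin 13 ≃ G ⧸ P := (Equiv.ofBijective (ptTab t) ((Nat.bijective_iff_injective_and_card _).mpr
    ⟨(tab_inj t).1, by simp⟩)).symm.trans x
  let e' : Fin 13 ≃ G ⧸ L := (Equiv.ofBijective (lnTab t) ((Nat.bijective_iff_injective_and_card _).mpr
    ⟨(tab_inj t).2, by simp⟩)).symm.trans y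
  have hinc : ∀ u v, inc (ptTab t u) (lnTab t v) = true ↔ Meet P L (e (ptTab t u)) (e' (lnTab t v)) := by
    intro u v
    simp only [e, e', Equiv.trans_apply, Equiv.ofBijective_symm_apply_apply]
    rw [htr, ht, tab_spec]
  have hinc' : ∀ i j, inc i j = true ↔ Meet P L (e i) (e' j) := by
    intro i j
    obtain ⟨u, rfl⟩ := (Finite.injective_iff_surjective_of_equiv (ZMod.finEquiv 13).symm.toEquiv).mp (tab_inj t).1 i
    obtain ⟨v, rfl⟩ := (Finite.injective_iff_surjective_of_equiv (ZMod.finEquiv 13).symm.toEquiv).mp (tab_inj t).2 j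
    exact hinc u v
  let ψ : G →* Equiv.Perm (Fin 13) :=
    { toFun := fun g => (e.trans (MulAction.toPerm g)).trans e.symm
      map_one' := by ext i; simp
      map_mul' := fun g h => by ext i; simp [Equiv.Perm.mul_apply, mul_smul] }
  have hψ : ∀ g, ψ g ∈ Coll := by
    intro g
    refine ⟨(e'.trans (MulAction.toPerm g)).trans e'.symm, fun i j => ?_⟩
    rw [Bool.eq_iff_iff, hinc', hinc']
    simp only [ψ, MonoidHom.coe_mk, OneHom.coe_mk, Equiv.trans_apply, Equiv.apply_symm_apply, MulAction.toPerm_apply,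
      meet_smul_iff]
  have hinjψ : Function.Injective ψ := by
    haveI := hs
    refine (MonoidHom.ker_eq_bot_iff ψ).mp ((ψ.normal_ker.eq_bot_or_eq_top).resolve_right fun htop => ?_)
    have hfix : ∀ p : G ⧸ P, p = ((1 : G) : G ⧸ P) := by
      intro p
      obtain ⟨g, rfl⟩ := QuotientGroup.mk_surjective p
      have hg : ψ g = 1 := MonoidHom.mem_ker.mp (htop ▸ Subgroup.mem_top g)
      have h := congrArg e (DFunLike.congr_fun hg (e.symm ((1 : G) : G ⧸ P)))
      simp only [ψ, MonoidHom.coe_mk, OneHom.coe_mk, Equiv.trans_apply, Equiv.apply_symm_apply,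
        MulAction.toPerm_apply, Equiv.Perm.one_apply] at h
      rw [← h]
      show (g : G ⧸ P) = ((g * 1 : G) : G ⧸ P)
      rw [mul_one]
    exact absurd ((hfix (x 1)).trans (hfix (x 0)).symm) (fun h => absurd (x.injective h) (by decide))
  obtain ⟨eC⟩ := coll_equiv
  have hCard : Nat.card Coll = 5616 := by rw [← Nat.card_congr eC.toEquiv, card_SL33]
  let F : G →* Coll := ψ.codRestrict _ hψ
  have hF : Function.Injective F := fun g h e => hinjψ (congrArg Subtype.val e)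
  exact ⟨(MulEquiv.ofBijective F ((Nat.bijective_iff_injective_and_card F).mpr ⟨hF, by rw [hG, hCard]⟩)).trans eC.symm⟩

theorem Hyp.iso (H : Hyp G) : Nonempty (G ≃* SL33) := by
  obtain ⟨a, w, ha, hw, hwa⟩ := H.thirteen.1
  obtain ⟨P, L, hP, hL, hPL⟩ := H.exists_parabolics
  exact iso_SL33 H.simple H.card hP hL hPL ha hw hwa

end CfsgLib.L33Invol
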