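import Cfsg.Agent.Lib.L33Invol.Base

set_option autoImplicit false
set_option maxHeartbeats 1000000

/-!
A simple group of order 5616 with involution centralizers `GL₂(3)` has two subgroups of index 13 meeting in a
subgroup of order 108.
-/

namespace CfsgLib.L33Invol

open Cfsg.Agent.S0197

/-- What is used of the centralizer of an involution. -/
structure Hyp (G : Type*) [Group G] : Prop where
  simple : IsSimpleGroup G
  card : Nat.card G = 5616
  cent2 : ∀ i : G, orderOf i = 2 → Nat.card (Subgroup.centralizer ({i} : Set G)) = 48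
  cent23 : ∀ i z : G, orderOf i = 2 → orderOf z = 3 → Commute i z →
    Nat.card ↥(Subgroup.centralizer ({i} : Set G) ⊓ Subgroup.centralizer ({z} : Set G)) = 6
  conj3 : ∀ i z i' z' : G, orderOf i = 2 → orderOf z = 3 → Commute i z → orderOf i' = 2 → orderOf z' = 3 →
    Commute i' z' → IsConj z z'
  inv3 : ∀ i z : G, orderOf i = 2 → orderOf z = 3 → Commute i z →
    ∃ s : G, orderOf s = 2 ∧ Commute s i ∧ s ≠ i ∧ s * z * s⁻¹ = z⁻¹

variable {G : Type*} [Group G] [Finite G]

theorem orderOf_conj (g z : G) : orderOf (g * z * g⁻¹) = orderOf z := by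
  rw [← MulAut.conj_apply, MulEquiv.orderOf_eq]

theorem commute_conj {g a b : G} (h : Commute a b) : Commute (g * a * g⁻¹) (g * b * g⁻¹) := by
  show g * a * g⁻¹ * (g * b * g⁻¹) = g * b * g⁻¹ * (g * a * g⁻¹)
  rw [conj_mul, conj_mul, h.eq]

theorem Ctx.to_conj (C : Ctx G) {i z : G} (hi : orderOf i = 2) (hz : orderOf z = 3) (h : Commute i z) :
    ∃ (g : G) (x : C.D), g * C.t * g⁻¹ = i ∧ g * (x : G) * g⁻¹ = z ∧
      C.mat x * C.mat x * C.mat x = 1 ∧ C.mat x ≠ 1 := by
  obtain ⟨g, hg⟩ := isConj_iff.1 (C.fusion i (by rw [← pow_two, ← hi, pow_orderOf_eq_one])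
    fun h => by rw [h, orderOf_one] at hi; norm_num at hi)
  have hD : g⁻¹ * z * g ∈ C.D := (C.memD _).2 (by
    calc g⁻¹ * z * g * C.t = g⁻¹ * (z * (g * C.t * g⁻¹)) * g := by group
      _ = g⁻¹ * ((g * C.t * g⁻¹) * z) * g := by rw [hg, h.eq]
      _ = C.t * (g⁻¹ * z * g) := by group)
  have h3 : orderOf (⟨_, hD⟩ : C.D) = 3 := by
    rw [Subgroup.orderOf_mk, show g⁻¹ * z * g = g⁻¹ * z * g⁻¹⁻¹ by group, orderOf_conj, hz]
  have hp := pow_orderOf_eq_one (⟨_, hD⟩ : C.D)
  rw [h3, pow_succ, pow_two] at hp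
  refine ⟨g, ⟨_, hD⟩, hg, by show g * (g⁻¹ * z * g) * g⁻¹ = z; group, ?_, fun h1 => ?_⟩
  · rw [← map_mul, ← map_mul, hp, map_one]
  · rw [C.mat_inj (h1.trans (map_one _).symm), orderOf_one] at h3
    norm_num at h3

theorem Ctx.hyp (C : Ctx G) (hcard : Nat.card G = 5616) : Hyp G where
  simple := C.simple
  card := hcard
  cent2 := fun _ hi => C.card_cent_invol hi
  cent23 := fun i z hi hz h => by
    obtain ⟨g, x, rfl, rfl, h3, h1⟩ := C.to_conj hi hz h
    rw [← cube_cent _ (C.mat_GL x) h3 h1, ← C.card_inf x.2]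
    refine Nat.card_congr ((MulAut.conj g⁻¹).toEquiv.subtypeEquiv fun y => ?_)
    simp only [Subgroup.mem_inf, Subgroup.mem_centralizer_singleton_iff, MulEquiv.toEquiv_eq_coe,
      MulEquiv.coe_toEquiv, MulAut.conj_apply, inv_inv]
    have key : ∀ a : G, y * (g * a * g⁻¹) = g * a * g⁻¹ * y ↔ g⁻¹ * y * g * a = a * (g⁻¹ * y * g) := fun a =>
      ⟨fun e => by
        calc g⁻¹ * y * g * a = g⁻¹ * (y * (g * a * g⁻¹)) * g := by group
          _ = g⁻¹ * (g * a * g⁻¹ * y) * g := by rw [e]
          _ = a * (g⁻¹ * y * g) := by group,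
      fun e => by
        calc y * (g * a * g⁻¹) = g * (g⁻¹ * y * g * a) * g⁻¹ := by group
          _ = g * (a * (g⁻¹ * y * g)) * g⁻¹ := by rw [e]
          _ = g * a * g⁻¹ * y := by group⟩
    rw [key, key]
  conj3 := fun i z i' z' hi hz h hi' hz' h' => by
    obtain ⟨g, x, rfl, rfl, h3, h1⟩ := C.to_conj hi hz h
    obtain ⟨g', x', rfl, rfl, h3', h1'⟩ := C.to_conj hi' hz' h'
    obtain ⟨a, ha, hax⟩ := cube_conj _ (C.mat_GL x) h3 h1
    obtain ⟨b, hb, hbx⟩ := cube_conj _ (C.mat_GL x') h3' h1'
    obtain ⟨S, hS⟩ := C.mat_surj shear_mem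
    obtain ⟨A, rfl⟩ := C.mat_surj ha
    obtain ⟨B, rfl⟩ := C.mat_surj hb
    rw [← hS, ← map_mul, ← map_mul] at hax hbx
    have e1 : IsConj ((S : G)) (g * x * g⁻¹) := isConj_iff.mpr ⟨g * A, by
      have := congrArg Subtype.val (C.mat_inj hax)
      rw [Subgroup.coe_mul, Subgroup.coe_mul] at this
      calc g * (A : G) * S * (g * (A : G))⁻¹ = g * ((A : G) * S) * (A : G)⁻¹ * g⁻¹ := by group
        _ = g * x * g⁻¹ := by rw [this]; group⟩
    have e2 : IsConj ((S : G)) (g' * x' * g'⁻¹) := isConj_iff.mpr ⟨g' * B, by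
      have := congrArg Subtype.val (C.mat_inj hbx)
      rw [Subgroup.coe_mul, Subgroup.coe_mul] at this
      calc g' * (B : G) * S * (g' * (B : G))⁻¹ = g' * ((B : G) * S) * (B : G)⁻¹ * g'⁻¹ := by group
        _ = g' * x' * g'⁻¹ := by rw [this]; group⟩
    exact e1.symm.trans e2
  inv3 := fun i z hi hz h => by
    obtain ⟨g, x, rfl, rfl, h3, h1⟩ := C.to_conj hi hz h
    obtain ⟨m, hm, hne, hmx⟩ := cube_inv _ (C.mat_GL x) h3 h1
    obtain ⟨S, rfl⟩ := C.mat_surj (invs_GLset _ hm)
    simp only [invs, Finset.mem_filter, Finset.mem_univ, true_and] at hm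
    have ho : orderOf (S : G) = 2 := by
      rw [Subgroup.orderOf_coe, ← orderOf_injective C.mat C.mat_inj]
      exact orderOf_eq_prime (by rw [pow_two]; exact hm.1) hm.2
    have hSS : (S : G) * S = 1 := by rw [← pow_two, ← ho, pow_orderOf_eq_one]
    rw [← map_mul, ← map_mul, ← map_mul] at hmx
    have hSx := congrArg Subtype.val (C.mat_inj hmx)
    rw [← map_mul, ← map_mul] at h3
    have hx3 := congrArg Subtype.val (C.mat_inj (h3.trans (map_one _).symm))
    simp only [Subgroup.coe_mul, Subgroup.coe_one] at hSx hx3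
    refine ⟨g * S * g⁻¹, by rw [orderOf_conj, ho], commute_conj ((C.memD _).1 S.2), fun e => ?_, ?_⟩
    · replace e := mul_left_cancel (mul_right_cancel e)
      exact hne ((congrArg C.mat (Subtype.ext e : S = C.tD)).trans C.mat_t)
    · calc g * S * g⁻¹ * (g * x * g⁻¹) * (g * S * g⁻¹)⁻¹ = g * (S * x * (S : G)⁻¹) * g⁻¹ := by group
        _ = g * ((x : G) * x) * g⁻¹ := by rw [inv_eq_of_mul_eq_one_right hSS, hSx]
        _ = (g * x * g⁻¹)⁻¹ := by
          rw [show (x : G) * x = (x : G)⁻¹ from eq_inv_of_mul_eq_one_left hx3]; group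

/-- The order of a power of a prime dividing `16 · 27`. -/
theorem odd_part {n : ℕ} (h : n ∣ 432) (h2 : ¬ 2 ∣ n) : n ∣ 27 := by
  have hc : Nat.Coprime n (2 ^ 4) := Nat.Coprime.pow_right 4 (by
    rw [Nat.coprime_two_right, Nat.odd_iff]; omega)
  exact hc.dvd_of_dvd_mul_left (by simpa using h)

theorem mem_cent {a x : G} (hx : x ∈ Subgroup.centralizer ({a} : Set G)) : Commute x a :=
  Subgroup.mem_centralizer_singleton_iff.mp hx

theorem conj_mem_cent {a x y : G} (hy : y * a * y⁻¹ = a ∨ y * a * y⁻¹ = a⁻¹)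
    (hx : x ∈ Subgroup.centralizer ({a} : Set G)) : y * x * y⁻¹ ∈ Subgroup.centralizer ({a} : Set G) := by
  refine Subgroup.mem_centralizer_singleton_iff.mpr ?_
  have h := commute_conj (g := y) (mem_cent hx)
  rcases hy with e | e <;> rw [e] at h
  · exact h
  · exact (by simpa using h.inv_right : Commute (y * x * y⁻¹) a).eq

variable (H : Hyp G)
include H

theorem Hyp.normal_eq {N : Subgroup G} (hN : N.Normal) (h1 : 1 < Nat.card N) : Nat.card N = 5616 := by
  haveI := H.simple
  rcases hN.eq_bot_or_eq_top with e | e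
  · rw [e, Subgroup.card_bot] at h1; omega
  · rw [e, Subgroup.card_top, H.card]

theorem Hyp.five616_dvd {K : Subgroup G} : Nat.card K ∣ 5616 := H.card ▸ K.card_subgroup_dvd_card

/-- Elements of order 13 are self-centralizing, and a conjugation cubes one of them. -/
theorem Hyp.thirteen :
    (∃ a w : G, orderOf a = 13 ∧ w ^ 3 = 1 ∧ w * a * w⁻¹ = a ^ 3) ∧
      ∀ a x : G, orderOf a = 13 → Commute x a → x ^ 13 = 1 := by
  classical
  haveI := H.simple
  haveI : Fact (Nat.Prime 13) := ⟨by norm_num⟩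
  have main : ∀ a : G, orderOf a = 13 →
      Nat.card (Subgroup.centralizer ({a} : Set G)) = 13 ∧ ∃ w : G, w ^ 3 = 1 ∧ w * a * w⁻¹ = a ^ 3 := by
    intro a ha
    have hS13 : ∀ S : Sylow 13 G, Nat.card S = 13 := fun S => by
      rw [Sylow.card_eq_multiplicity, H.card, show Nat.factorization 5616 13 = 1 by
        rw [show 5616 = 13 ^ 1 * 432 by norm_num, Nat.factorization_mul (by norm_num) (by norm_num),
          Nat.Prime.factorization_pow (by norm_num)]
        simp [Nat.factorization_eq_zero_of_not_dvd]]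
      norm_num
    have hza : Nat.card (Subgroup.zpowers a) = 13 := by rw [Nat.card_zpowers, ha]
    obtain ⟨S, hS⟩ := (IsPGroup.of_card (n := 1) (by rw [hza, pow_one]) :
      IsPGroup 13 (Subgroup.zpowers a)).exists_le_sylow
    have hSa : (S : Subgroup G) = Subgroup.zpowers a :=
      (Subgroup.eq_of_le_of_card_ge hS (by rw [hza]; exact (hS13 S).le)).symm
    set N := Subgroup.normalizer ((S : Subgroup G) : Set G) with hN
    set Z := Subgroup.centralizer ({a} : Set G) with hZ
    have hZN : Z ≤ N := fun x hx => by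
      rw [hN, hSa]
      refine Subgroup.mem_normalizer_iff.mpr fun y => ?_
      have key : ∀ c : G, Commute c a → ∀ y ∈ Subgroup.zpowers a, c * y * c⁻¹ = y := by
        rintro c hc _ ⟨k, rfl⟩
        show c * a ^ k * c⁻¹ = a ^ k
        rw [(hc.zpow_right k).eq, mul_inv_cancel_right]
      refine ⟨fun hy => by rw [key x (mem_cent hx) y hy]; exact hy, fun hy => ?_⟩
      have h := key x⁻¹ (mem_cent hx).inv_left _ hy
      rw [show x⁻¹ * (x * y * x⁻¹) * x⁻¹⁻¹ = y by group] at h
      rw [h]; exact hy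
    have hn : Nat.card (Sylow 13 G) = N.index := S.card_eq_index_normalizer
    have hmod : N.index % 13 = 1 := hn ▸ card_sylow_modEq_one 13 G
    have hNG := N.card_mul_index
    rw [H.card] at hNG
    have hdiv : N.index ∣ 432 := by
      have h := S.card_dvd_index
      have h2 := (S : Subgroup G).card_mul_index
      rw [show Nat.card (S : Subgroup G) = 13 from hS13 S, H.card] at h2
      rw [← hn]
      exact (show (S : Subgroup G).index = 432 by omega) ▸ h
    have hcases : N.index = 1 ∨ N.index = 27 ∨ N.index = 144 :=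
      (by decide +kernel : ∀ m ∈ Nat.divisors 432, m % 13 = 1 → m = 1 ∨ m = 27 ∨ m = 144) _
        (Nat.mem_divisors.mpr ⟨hdiv, by norm_num⟩) hmod
    have hZodd : ¬ 2 ∣ Nat.card Z := fun h => by
      obtain ⟨v, hv⟩ := exists_prime_orderOf_dvd_card' 2 h
      rw [← Subgroup.orderOf_coe] at hv
      have := orderOf_dvd_natCard (⟨a, Subgroup.mem_centralizer_singleton_iff.mpr (mem_cent v.2).symm.eq⟩ :
        Subgroup.centralizer ({(v : G)} : Set G))
      rw [Subgroup.orderOf_mk, H.cent2 _ hv, ha] at this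
      norm_num at this
    let ψ := Subgroup.normalizerMonoidHom (S : Subgroup G)
    have hker : ψ.ker.map N.subtype ≤ Z := by
      rintro _ ⟨v, hv, rfl⟩
      have h0 := congrArg Subtype.val (DFunLike.congr_fun (MonoidHom.mem_ker.1 hv)
        (⟨a, hSa ▸ Subgroup.mem_zpowers a⟩ : (S : Subgroup G)))
      exact Subgroup.mem_centralizer_singleton_iff.mpr (mul_inv_eq_iff_eq_mul.1 h0)
    have h12 : Nat.card (MulAut (S : Subgroup G)) = 12 := by
      haveI : IsCyclic (S : Subgroup G) := isCyclic_of_prime_card (hS13 S)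
      rw [IsCyclic.card_mulAut, hS13 S]
      rfl
    have hkr : Nat.card ψ.ker * Nat.card ψ.range = Nat.card N := by
      rw [← Subgroup.index_ker, ψ.ker.card_mul_index]
    have hr : Nat.card ψ.range ∣ 12 := h12 ▸ Subgroup.card_subgroup_dvd_card _
    have hkodd : ¬ 2 ∣ Nat.card ψ.ker := fun h => hZodd (h.trans (by
      rw [← Subgroup.card_map_of_injective N.subtype_injective (K := ψ.ker)]
      exact Subgroup.card_dvd_of_le hker))
    have h144 : N.index = 144 := by
      rcases hcases with h | h | h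
      · exfalso
        have htop := Subgroup.index_eq_one.mp h
        have := H.normal_eq (Subgroup.normalizer_eq_top_iff.mp htop) (by rw [hS13 S]; norm_num)
        rw [hS13 S] at this
        norm_num at this
      · exfalso
        rw [h] at hNG
        have hle := Nat.le_of_dvd (by norm_num) hr
        interval_cases hq : Nat.card ψ.range <;> omega
      · exact h
    have hN39 : Nat.card N = 39 := by rw [h144] at hNG; omega
    have hZ13 : 13 ∣ Nat.card Z := by
      rw [← hza]; exact Subgroup.card_dvd_of_le (Subgroup.zpowers_le.mpr (Subgroup.mem_centralizer_singleton_iff.mpr rfl))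
    have hZ : Nat.card Z = 13 := by
      have hd := Subgroup.card_dvd_of_le hZN
      rw [hN39] at hd
      rcases (by decide +kernel : ∀ m ∈ Nat.divisors 39, 13 ∣ m → m = 13 ∨ m = 39) _
        (Nat.mem_divisors.mpr ⟨hd, by norm_num⟩) hZ13 with h | h
      · exact h
      · exfalso
        have hZN' : Z = N := Subgroup.eq_of_le_of_card_ge hZN (by rw [h, hN39])
        have hcent : Subgroup.normalizer ((S : Subgroup G) : Set G) ≤
            Subgroup.centralizer ((S : Subgroup G) : Set G) := by
          rw [← hN, ← hZN']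
          intro x hx
          refine Subgroup.mem_centralizer_iff.mpr fun y hy => ?_
          rw [SetLike.mem_coe, hSa] at hy
          obtain ⟨k, rfl⟩ := hy
          exact ((mem_cent hx).zpow_right k).symm.eq
        have hcomp := MonoidHom.ker_transferSylow_isComplement' S hcent
        have hK := hcomp.card_mul
        rw [H.card, show Nat.card (S : Subgroup G) = 13 from hS13 S] at hK
        have := H.normal_eq (MonoidHom.normal_ker (MonoidHom.transferSylow S hcent)) (by omega)
        omega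
    refine ⟨hZ, ?_⟩
    obtain ⟨n, hn, hnZ⟩ : ∃ n ∈ N, n ∉ Z := by
      by_contra hcon
      push Not at hcon
      have := Subgroup.card_le_of_le (show N ≤ Z from hcon)
      rw [hZ, hN39] at this
      norm_num at this
    have hmem : n * a * n⁻¹ ∈ Subgroup.zpowers a := hSa ▸
      (Subgroup.mem_normalizer_iff.mp hn a).mp (hSa ▸ Subgroup.mem_zpowers a)
    obtain ⟨k, hk, hka⟩ := Finset.mem_image.mp (mem_zpowers_iff_mem_range_orderOf.mp hmem)
    rw [ha, Finset.mem_range] at hk
    have hka' : a ^ k = n * a * n⁻¹ := hka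
    have hpow : ∀ j : ℕ, n ^ j * a * (n ^ j)⁻¹ = a ^ (k ^ j) := by
      intro j
      induction j with
      | zero => simp
      | succ j ih =>
        calc n ^ (j + 1) * a * (n ^ (j + 1))⁻¹ = n * (n ^ j * a * (n ^ j)⁻¹) * n⁻¹ := by rw [pow_succ']; group
          _ = (n * a * n⁻¹) ^ (k ^ j) := by rw [ih, conj_pow]
          _ = a ^ (k ^ (j + 1)) := by rw [← hka', ← pow_mul, pow_succ']
    have h39 : n ^ 39 = 1 := by
      have h := pow_card_eq_one' (x := (⟨n, hn⟩ : N))
      rw [hN39] at h
      have := congrArg Subtype.val h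
      rwa [SubgroupClass.coe_pow] at this
    have hk39 : k ^ 39 % 13 = 1 := by
      have h := hpow 39
      rw [h39, one_mul, inv_one, mul_one] at h
      have h' : a ^ 1 = a ^ (k ^ 39) := by rw [pow_one]; exact h
      rw [pow_eq_pow_iff_modEq, ha] at h'
      exact h'.symm
    have hk1 : k ≠ 1 := fun e => hnZ (Subgroup.mem_centralizer_singleton_iff.mpr (by
      rw [e, pow_one] at hka'
      exact (mul_inv_eq_iff_eq_mul.mp hka'.symm)))
    have hk' : k = 3 ∨ k = 9 :=
      (by decide +kernel : ∀ k < 13, k ^ 39 % 13 = 1 → k ≠ 1 → k = 3 ∨ k = 9) k hk hk39 hk1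
    rcases hk' with rfl | rfl
    · refine ⟨n ^ 13, by rw [← pow_mul]; exact h39, ?_⟩
      rw [hpow, pow_eq_pow_iff_modEq, ha]
      decide +kernel
    · refine ⟨n ^ 26, by rw [← pow_mul, show 26 * 3 = 39 * 2 by norm_num, pow_mul, h39, one_pow], ?_⟩
      rw [hpow, pow_eq_pow_iff_modEq, ha]
      decide +kernel
  refine ⟨?_, fun a x ha hx => ?_⟩
  · obtain ⟨a, ha⟩ := exists_prime_orderOf_dvd_card' (G := G) 13 (by rw [H.card]; norm_num)
    obtain ⟨-, w, h1, h2⟩ := main a ha
    exact ⟨a, w, ha, h1, h2⟩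
  · have h := pow_card_eq_one'
      (x := (⟨x, Subgroup.mem_centralizer_singleton_iff.mpr hx.eq⟩ : Subgroup.centralizer ({a} : Set G)))
    rw [(main a ha).1] at h
    have := congrArg Subtype.val h
    rwa [SubgroupClass.coe_pow] at this

theorem Hyp.cent_dvd {x : G} (hx : orderOf x = 3) : Nat.card (Subgroup.centralizer ({x} : Set G)) ∣ 432 := by
  haveI : Fact (Nat.Prime 13) := ⟨by norm_num⟩
  have h13 : ¬ 13 ∣ Nat.card (Subgroup.centralizer ({x} : Set G)) := fun h => by
    obtain ⟨a, ha⟩ := exists_prime_orderOf_dvd_card' 13 h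
    rw [← Subgroup.orderOf_coe] at ha
    have h1 := H.thirteen.2 (a : G) x ha (mem_cent a.2).symm
    have := orderOf_dvd_of_pow_eq_one h1
    rw [hx] at this
    norm_num at this
  exact ((Nat.Prime.coprime_iff_not_dvd (by norm_num : Nat.Prime 13)).mpr h13).symm.dvd_of_dvd_mul_left
    (by rw [show 13 * 432 = 5616 by norm_num]; exact H.five616_dvd)

theorem Hyp.sylow_card (U : Sylow 3 G) : Nat.card U = 27 := by
  rw [Sylow.card_eq_multiplicity, H.card, show Nat.factorization 5616 3 = 3 by
    rw [show 5616 = 3 ^ 3 * 208 by norm_num, Nat.factorization_mul (by norm_num) (by norm_num),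
      Nat.Prime.factorization_pow (by norm_num)]
    simp [Nat.factorization_eq_zero_of_not_dvd]]
  norm_num

/-- Only small subgroups of order prime to 2 sit in involution centralizers. -/
theorem Hyp.odd_le_three {i : G} (hi : orderOf i = 2) {K : Subgroup G} (hK : Nat.card K ∣ 27)
    (h : ∀ x ∈ K, Commute x i) : Nat.card K ≤ 3 := by
  have hd : Nat.card K ∣ Nat.gcd 48 27 := Nat.dvd_gcd (by
    rw [← H.cent2 i hi]
    exact Subgroup.card_dvd_of_le fun x hx => Subgroup.mem_centralizer_singleton_iff.mpr (h x hx).eq) hK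
  exact Nat.le_of_dvd (by norm_num) (by simpa using hd)

theorem Hyp.cent_odd {x : G} (hx : orderOf x = 3) (hodd : ∀ i : G, orderOf i = 2 → ¬ Commute i x) :
    Nat.card (Subgroup.centralizer ({x} : Set G)) ∣ 27 := by
  haveI : Fact (Nat.Prime 2) := ⟨Nat.prime_two⟩
  refine odd_part (H.cent_dvd hx) fun h => ?_
  obtain ⟨i, hi⟩ := exists_prime_orderOf_dvd_card' 2 h
  rw [← Subgroup.orderOf_coe] at hi
  exact hodd i hi (mem_cent i.2)

theorem Hyp.cent_even {x i : G} (hx : orderOf x = 3) (hi : orderOf i = 2) (h : Commute i x) :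
    ∃ k, k ∈ [1, 2, 3] ∧ Nat.card (Subgroup.centralizer ({x} : Set G)) = 2 * 3 ^ k := by
  haveI : Fact (Nat.Prime 2) := ⟨Nat.prime_two⟩
  set Z := Subgroup.centralizer ({x} : Set G)
  have hiZ : i ∈ Z := Subgroup.mem_centralizer_singleton_iff.mpr h.eq
  have h2 : 2 ∣ Nat.card Z := by
    rw [← hi, ← Subgroup.orderOf_mk i hiZ]; exact orderOf_dvd_natCard _
  have h3 : 3 ∣ Nat.card Z := by
    rw [← hx, ← Subgroup.orderOf_mk x (Subgroup.mem_centralizer_singleton_iff.mpr rfl)]
    exact orderOf_dvd_natCard _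
  have h4 : ¬ 4 ∣ Nat.card Z := by
    intro h4
    obtain ⟨T, hT⟩ := Sylow.exists_subgroup_card_pow_prime 2 (n := 2) (G := Z) (by simpa using h4)
    obtain ⟨j, hj⟩ := exists_prime_orderOf_dvd_card' (G := T) 2 (by rw [hT]; norm_num)
    have hcomm := (IsPGroup.commutative_of_card_eq_prime_sq hT)
    have hj' : orderOf (((j : T) : Z) : G) = 2 := by rw [Subgroup.orderOf_coe, Subgroup.orderOf_coe, hj]
    have hle : T.map Z.subtype ≤ Subgroup.centralizer ({((j : Z) : G)} : Set G) ⊓ Z := by
      rintro _ ⟨y, hy, rfl⟩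
      exact ⟨Subgroup.mem_centralizer_singleton_iff.mpr
        (congrArg (fun q : T => ((q : Z) : G)) (hcomm ⟨y, hy⟩ j)), y.2⟩
    have := Subgroup.card_dvd_of_le hle
    rw [Subgroup.card_map_of_injective Z.subtype_injective, hT, H.cent23 _ x hj' hx (mem_cent (j : Z).2)] at this
    norm_num at this
  have := (by decide +kernel : ∀ m ∈ Nat.divisors 432, 2 ∣ m → 3 ∣ m → ¬ 4 ∣ m → ∃ k ∈ [1, 2, 3], m = 2 * 3 ^ k)
    _ (Nat.mem_divisors.mpr ⟨H.cent_dvd hx, by norm_num⟩) h2 h3 h4
  exact this

omit H in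
/-- The elements of odd order of a group with a Sylow subgroup of index two lie in it. -/
theorem pow_mem_of_index_two {K U : Subgroup G} (hUK : U ≤ K) (h2 : Nat.card K = 2 * Nat.card U) {y : G}
    (hy : y ∈ K) (ho : Odd (orderOf y)) : y ∈ U := by
  have hi : (U.subgroupOf K).index = 2 := by
    have h := (U.subgroupOf K).card_mul_index
    rw [Nat.card_congr (Subgroup.subgroupOfEquivOfLe hUK).toEquiv, h2, mul_comm 2] at h
    exact Nat.eq_of_mul_eq_mul_left Nat.card_pos h
  obtain ⟨k, hk⟩ := ho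
  have h2' : y * y ∈ U := by
    have := Subgroup.mul_self_mem_of_index_two hi (⟨y, hy⟩ : K)
    exact this
  have : y = ((y * y) ^ k)⁻¹ := eq_inv_of_mul_eq_one_left (by
    rw [← pow_two, ← pow_mul, ← pow_succ', ← hk, pow_orderOf_eq_one])
  rw [this]
  exact inv_mem (pow_mem h2' k)

omit H in
theorem index_two_normal {K U : Subgroup G} (hUK : U ≤ K) (h2 : Nat.card K = 2 * Nat.card U) :
    K ≤ Subgroup.normalizer (U : Set G) := by
  have hi : (U.subgroupOf K).index = 2 := by
    have h := (U.subgroupOf K).card_mul_index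
    rw [Nat.card_congr (Subgroup.subgroupOfEquivOfLe hUK).toEquiv, h2, mul_comm 2] at h
    exact Nat.eq_of_mul_eq_mul_left Nat.card_pos h
  haveI := Subgroup.normal_of_index_eq_two hi
  exact Subgroup.normal_subgroupOf_iff_le_normalizer hUK |>.mp inferInstance

omit H in
theorem three_card {x : G} (hx : orderOf x = 3) : Nat.card (Subgroup.zpowers x) = 3 := by
  rw [Nat.card_zpowers, hx]

omit H in
theorem zpowers_three {x y : G} (hx : orderOf x = 3) (hy : y ∈ Subgroup.zpowers x) :
    y = 1 ∨ y = x ∨ y = x⁻¹ := by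
  classical
  obtain ⟨k, hk, rfl⟩ := Finset.mem_image.mp (mem_zpowers_iff_mem_range_orderOf.mp hy)
  rw [hx, Finset.mem_range] at hk
  interval_cases k
  · exact Or.inl (pow_zero x)
  · exact Or.inr (Or.inl (pow_one x))
  · refine Or.inr (Or.inr (eq_inv_of_mul_eq_one_left ?_))
    rw [← pow_succ]; simpa [hx] using pow_orderOf_eq_one x

/-- Some element of order three commuting with an involution is central in a Sylow 3-subgroup. -/
theorem Hyp.exists_central : ∃ (U : Sylow 3 G) (z i : G), z ∈ (U : Subgroup G) ∧ orderOf z = 3 ∧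
    orderOf i = 2 ∧ Commute i z ∧ ∀ u ∈ (U : Subgroup G), Commute u z := by
  classical
  haveI : Fact (Nat.Prime 3) := ⟨Nat.prime_three⟩
  haveI : Fact (Nat.Prime 2) := ⟨Nat.prime_two⟩
  by_contra hcon
  obtain ⟨i₀, hi₀⟩ := exists_prime_orderOf_dvd_card' (G := G) 2 (by rw [H.card]; norm_num)
  obtain ⟨z₁, hz₁⟩ := exists_prime_orderOf_dvd_card' (G := Subgroup.centralizer ({i₀} : Set G)) 3
    (by rw [H.cent2 _ hi₀]; norm_num)
  rw [← Subgroup.orderOf_coe] at hz₁
  obtain ⟨U, hU⟩ := (IsPGroup.of_card (n := 1) (by rw [three_card hz₁, pow_one]) :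
    IsPGroup 3 (Subgroup.zpowers (z₁ : G))).exists_le_sylow
  set z : G := (z₁ : G) with hzdef
  have hzU : z ∈ (U : Subgroup G) := hU (Subgroup.mem_zpowers _)
  have hiz : Commute i₀ z := (mem_cent z₁.2).symm
  set Z := Subgroup.centralizer ({z} : Set G)
  have hU27 := H.sylow_card U
  -- the centre of the Sylow subgroup
  have hzc : ¬ ∀ u ∈ (U : Subgroup G), Commute u z := fun h => hcon ⟨U, z, i₀, hzU, hz₁, hi₀, hiz, h⟩
  have hodd : ∀ w ∈ (U : Subgroup G), w ≠ 1 → (∀ u ∈ (U : Subgroup G), Commute u w) →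
      orderOf w = 3 → ∀ i : G, orderOf i = 2 → ¬ Commute i w := fun w hw _ hwc hw3 i hi hiw =>
    hcon ⟨U, w, i, hw, hw3, hi, hiw, hwc⟩
  haveI : Nontrivial (U : Subgroup G) := Finite.one_lt_card_iff_nontrivial.mp (by rw [hU27]; norm_num)
  haveI := U.isPGroup'.center_nontrivial
  obtain ⟨w₁, hw₁⟩ := exists_prime_orderOf_dvd_card' (G := Subgroup.center (U : Subgroup G)) 3 (by
    obtain ⟨k, hk0, hk⟩ := (U.isPGroup'.to_subgroup (Subgroup.center _)).nontrivial_iff_card.1 inferInstance
    rw [hk]; exact dvd_pow_self 3 hk0.ne')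
  set w : G := ((w₁ : (U : Subgroup G)) : G) with hwdef
  have hw3 : orderOf w = 3 := by rw [hwdef, Subgroup.orderOf_coe, Subgroup.orderOf_coe, hw₁]
  have hwc : ∀ u ∈ (U : Subgroup G), Commute u w := fun u hu =>
    congrArg Subtype.val (Subgroup.mem_center_iff.1 w₁.2 ⟨u, hu⟩)
  have hwU : w ∈ (U : Subgroup G) := (w₁ : (U : Subgroup G)).2
  have hwne : w ≠ 1 := fun h => by rw [h, orderOf_one] at hw3; norm_num at hw3
  have hwodd := hodd w hwU hwne hwc hw3
  have hCw : Subgroup.centralizer ({w} : Set G) = (U : Subgroup G) :=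
    (Subgroup.eq_of_le_of_card_ge (fun u hu => Subgroup.mem_centralizer_singleton_iff.mpr (hwc u hu).eq)
      (by rw [hU27]; exact Nat.le_of_dvd (by norm_num) (H.cent_odd hw3 hwodd))).symm
  set E := (U : Subgroup G) ⊓ Z with hE
  have hzE : z ∈ E := ⟨hzU, Subgroup.mem_centralizer_singleton_iff.mpr rfl⟩
  have hwE : w ∈ E := ⟨hwU, Subgroup.mem_centralizer_singleton_iff.mpr (hwc z hzU).symm.eq⟩
  have hzw : z ∉ Subgroup.zpowers w := fun h => by
    rcases zpowers_three hw3 h with e | e | e
    · rw [e, orderOf_one] at hz₁; norm_num at hz₁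
    · exact hwodd i₀ hi₀ (e ▸ hiz)
    · exact hwodd i₀ hi₀ (inv_inv w ▸ (e ▸ hiz).inv_right)
  have hE9 : Nat.card E = 9 := by
    have hd := Subgroup.card_dvd_of_le (inf_le_left : E ≤ (U : Subgroup G))
    rw [hU27] at hd
    have h3 : 3 ∣ Nat.card E := by rw [← three_card hw3]; exact Subgroup.card_dvd_of_le (Subgroup.zpowers_le.mpr hwE)
    rcases (by decide +kernel : ∀ m ∈ Nat.divisors 27, 3 ∣ m → m = 3 ∨ m = 9 ∨ m = 27) _
      (Nat.mem_divisors.mpr ⟨hd, by norm_num⟩) h3 with h | h | h
    · exact absurd ((Subgroup.eq_of_le_of_card_ge (Subgroup.zpowers_le.mpr hwE) (by rw [h, three_card hw3])).symm ▸ hzE) hzw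
    · exact h
    · refine absurd (fun u hu => ?_) hzc
      have e := Subgroup.eq_of_le_of_card_ge (inf_le_left : E ≤ _) (by rw [h, hU27])
      exact mem_cent (e.symm.le hu : u ∈ E).2
  -- the centralizer of `z`
  obtain ⟨k, hk, hcz⟩ := H.cent_even hz₁ hi₀ hiz
  have hE_Z : Nat.card Z = 2 * Nat.card E := by
    have h9 : 9 ∣ Nat.card Z := hE9 ▸ Subgroup.card_dvd_of_le inf_le_right
    rw [hE9]
    simp only [List.mem_cons, List.not_mem_nil, or_false] at hk
    rcases hk with rfl | rfl | rfl
    · rw [hcz] at h9; norm_num at h9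
    · rw [hcz]; norm_num
    · exfalso
      obtain ⟨T, hT⟩ := Sylow.exists_subgroup_card_pow_prime 3 (n := 3) (G := Z) (by rw [hcz]; norm_num)
      obtain ⟨V, hV⟩ := ((IsPGroup.of_card hT).map Z.subtype).exists_le_sylow
      have hVeq : T.map Z.subtype = (V : Subgroup G) := Subgroup.eq_of_le_of_card_ge hV (by
        rw [Subgroup.card_map_of_injective Z.subtype_injective, hT]; exact (H.sylow_card V).le)
      have hVc : ∀ u ∈ (V : Subgroup G), Commute u z := fun u hu => by
        rw [← hVeq] at hu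
        exact mem_cent (Subgroup.map_subtype_le T hu)
      have hzV : z ∈ (V : Subgroup G) := by
        by_contra hzV
        have hp := (IsPGroup.of_card (n := 1) (show Nat.card (Subgroup.zpowers z) = 3 ^ 1 by
          rw [three_card hz₁, pow_one])).to_sup_of_normal_right' V.isPGroup' (Subgroup.zpowers_le.mpr (by
            refine Subgroup.mem_normalizer_iff.mpr fun y => ⟨fun hy => ?_, fun hy => ?_⟩
            · rw [(hVc y hy).symm.eq, mul_inv_cancel_right]; exact hy
            · have e := (hVc _ hy).eq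
              rw [show z * y * z⁻¹ * z = z * y by group] at e
              rw [mul_left_cancel (e.trans (by group : z * (z * y * z⁻¹) = z * (z * y * z⁻¹)))]
              exact hy))
        exact hzV ((V.is_maximal' hp le_sup_right) ▸ (le_sup_left : Subgroup.zpowers z ≤ _) (Subgroup.mem_zpowers z))
      exact hcon ⟨V, z, i₀, hzV, hz₁, hi₀, hiz, hVc⟩
  have hiN : i₀ ∈ Subgroup.normalizer (E : Set G) :=
    index_two_normal inf_le_right hE_Z (Subgroup.mem_centralizer_singleton_iff.mpr hiz.eq)
  -- six elements of `E` commute with involutions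
  have hEw : ∀ y ∈ E, y ≠ 1 → (∀ i : G, orderOf i = 2 → ¬ Commute i y) → y ∈ Subgroup.zpowers w := by
    intro y hy hy1 hyodd
    by_contra hyw
    haveI := Fintype.ofFinite G
    obtain ⟨u, hu, huz⟩ : ∃ u ∈ (U : Subgroup G), ¬ Commute u z := by
      by_contra h; push Not at h; exact hzc h
    have hUN : (U : Subgroup G) ≤ Subgroup.normalizer (E : Set G) := by
      intro v hv
      have hsub : E.subgroupOf (U : Subgroup G) ≤ _ := le_refl _
      have hi3 : (E.subgroupOf (U : Subgroup G)).index = 3 := by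
        have h := (E.subgroupOf (U : Subgroup G)).card_mul_index
        rw [Nat.card_congr (Subgroup.subgroupOfEquivOfLe (inf_le_left : E ≤ (U : Subgroup G))).toEquiv, hE9, hU27] at h
        omega
      haveI : (E.subgroupOf (U : Subgroup G)).Normal :=
        Subgroup.normal_of_index_eq_minFac_card (by rw [hi3, hU27]; norm_num)
      exact (Subgroup.normal_subgroupOf_iff_le_normalizer inf_le_left).mp inferInstance hv
    have hconjE : ∀ v ∈ (U : Subgroup G), v * z * v⁻¹ ∈ E := fun v hv =>
      (Subgroup.mem_normalizer_iff.mp (hUN hv) z).mp hzE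
    have heven : ∀ g : G, ∃ i : G, orderOf i = 2 ∧ Commute i (g * z * g⁻¹) ∧ Commute i (g * z * g⁻¹)⁻¹ := fun g =>
      ⟨g * i₀ * g⁻¹, by rw [orderOf_conj, hi₀], commute_conj hiz, (commute_conj hiz).inv_right⟩
    -- the orbit of `z` and its inverses
    let O : Finset G := (Finset.univ.filter fun v => v ∈ (U : Subgroup G)).image (fun v => v * z * v⁻¹)
    have hO : O.card = 3 := by
      have hfib : ∀ o ∈ O, ((Finset.univ.filter fun v => v ∈ (U : Subgroup G)).filter
          fun v => v * z * v⁻¹ = o).card = 9 := by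
        intro o ho
        obtain ⟨v, hv, rfl⟩ := Finset.mem_image.mp ho
        simp only [Finset.mem_filter, Finset.mem_univ, true_and] at hv
        rw [← hE9, Nat.card_eq_fintype_card, Fintype.card_subtype]
        refine Finset.card_bij' (fun q _ => v⁻¹ * q) (fun e _ => v * e) ?_ ?_ (by simp) (by simp)
        · intro q hq
          simp only [Finset.mem_filter, Finset.mem_univ, true_and] at hq ⊢
          refine ⟨(U : Subgroup G).mul_mem ((U : Subgroup G).inv_mem hv) hq.1, Subgroup.mem_centralizer_singleton_iff.mpr ?_⟩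
          calc v⁻¹ * q * z = v⁻¹ * (q * z * q⁻¹) * q := by group
            _ = z * (v⁻¹ * q) := by rw [hq.2]; group
        · intro e he
          simp only [Finset.mem_filter, Finset.mem_univ, true_and] at he ⊢
          refine ⟨mul_mem hv he.1, ?_⟩
          calc v * e * z * (v * e)⁻¹ = v * (e * z) * e⁻¹ * v⁻¹ := by group
            _ = v * (z * e) * e⁻¹ * v⁻¹ := by rw [(mem_cent he.2).eq]
            _ = v * z * v⁻¹ := by group
      have h := Finset.card_eq_sum_card_image (fun v => v * z * v⁻¹) (Finset.univ.filter fun v => v ∈ (U : Subgroup G))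
      rw [Finset.sum_congr rfl hfib, Finset.sum_const, smul_eq_mul] at h
      rw [← Fintype.card_subtype, ← Nat.card_eq_fintype_card,
        show Nat.card {v // v ∈ (U : Subgroup G)} = 27 from hU27] at h
      show O.card = 3
      have : O.card * 9 = 27 := h.symm
      omega
    let O' : Finset G := O.image (·⁻¹)
    have hO' : O'.card = 3 := by rw [Finset.card_image_of_injective _ inv_injective, hO]
    let W : Finset G := {1, w, w⁻¹, y}
    have hyW : W.card = 4 := by
      have hw12 : w ≠ w⁻¹ := fun e => by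
        have : w ^ 2 = 1 := by rw [pow_two]; nth_rewrite 2 [e]; rw [mul_inv_cancel]
        have := orderOf_dvd_of_pow_eq_one this
        rw [hw3] at this; norm_num at this
      have h1 : y ≠ w := fun e => hyw (e ▸ Subgroup.mem_zpowers w)
      have h2 : y ≠ w⁻¹ := fun e => hyw (e ▸ inv_mem (Subgroup.mem_zpowers w))
      simp only [W]
      rw [Finset.card_insert_of_notMem (by simp [hwne.symm, (inv_ne_one.mpr hwne).symm, hy1.symm]),
        Finset.card_insert_of_notMem (by simp [hw12, h1.symm]), Finset.card_pair h2.symm]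
    have hdisj : Disjoint O O' := by
      rw [Finset.disjoint_left]
      intro o ho ho'
      obtain ⟨v, hv, rfl⟩ := Finset.mem_image.mp ho
      obtain ⟨o'', ho'', he⟩ := Finset.mem_image.mp ho'
      obtain ⟨v', hv', rfl⟩ := Finset.mem_image.mp ho''
      simp only [Finset.mem_filter, Finset.mem_univ, true_and] at hv hv'
      set q := v'⁻¹ * v
      have hqU : q ∈ (U : Subgroup G) := mul_mem (inv_mem hv') hv
      have hqz : q * z * q⁻¹ = z⁻¹ := by
        calc q * z * q⁻¹ = v'⁻¹ * (v * z * v⁻¹) * v' := by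
              show v'⁻¹ * v * z * (v'⁻¹ * v)⁻¹ = _
              group
          _ = v'⁻¹ * (v' * z * v'⁻¹)⁻¹ * v' := by rw [← he]
          _ = z⁻¹ := by group
      have hq2 : q * q ∈ Z := Subgroup.mem_centralizer_singleton_iff.mpr (by
        have : q * q * z * (q * q)⁻¹ = z := by
          calc q * q * z * (q * q)⁻¹ = q * (q * z * q⁻¹) * q⁻¹ := by group
            _ = q * z⁻¹ * q⁻¹ := by rw [hqz]
            _ = (q * z * q⁻¹)⁻¹ := by group
            _ = z := by rw [hqz, inv_inv]
        exact mul_inv_eq_iff_eq_mul.mp this)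
      have hq3 : q ^ 27 = 1 := by
        have h := pow_card_eq_one' (x := (⟨q, hqU⟩ : (U : Subgroup G)))
        rw [hU27] at h
        simpa using congrArg Subtype.val h
      have hqZ : q ∈ Z := by
        have : q = ((q * q) ^ 13)⁻¹ := eq_inv_of_mul_eq_one_left (by
          rw [← pow_two, ← pow_mul, ← pow_succ']; exact hq3)
        rw [this]; exact inv_mem (pow_mem hq2 _)
      rw [mul_inv_eq_iff_eq_mul.mpr (mem_cent hqZ).eq] at hqz
      have : z ^ 2 = 1 := by rw [pow_two]; nth_rewrite 2 [hqz]; rw [mul_inv_cancel]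
      have := orderOf_dvd_of_pow_eq_one this
      rw [hz₁] at this; norm_num at this
    have hdW : Disjoint (O ∪ O') W := by
      rw [Finset.disjoint_left]
      intro o ho hoW
      obtain ⟨g, hg⟩ : ∃ g : G, o = g * z * g⁻¹ ∨ o = (g * z * g⁻¹)⁻¹ := by
        rcases Finset.mem_union.mp ho with h | h
        · obtain ⟨v, -, rfl⟩ := Finset.mem_image.mp h; exact ⟨v, Or.inl rfl⟩
        · obtain ⟨o'', ho'', rfl⟩ := Finset.mem_image.mp h
          obtain ⟨v, -, rfl⟩ := Finset.mem_image.mp ho''; exact ⟨v, Or.inr rfl⟩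
      obtain ⟨i, hi, hi1, hi2⟩ := heven g
      have hio : Commute i o := by rcases hg with rfl | rfl <;> assumption
      have ho3 : orderOf o = 3 := by rcases hg with rfl | rfl <;> simp only [orderOf_inv, orderOf_conj, hz₁]
      simp only [W, Finset.mem_insert, Finset.mem_singleton] at hoW
      rcases hoW with rfl | rfl | rfl | rfl
      · simp at ho3
      · exact hwodd i hi hio
      · exact hwodd i hi (inv_inv w ▸ hio.inv_right)
      · exact hyodd i hi hio
    have hsub : O ∪ O' ∪ W ⊆ Finset.univ.filter fun v => v ∈ E := by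
      intro o ho
      simp only [Finset.mem_filter, Finset.mem_univ, true_and]
      rcases Finset.mem_union.mp ho with h | h
      · rcases Finset.mem_union.mp h with h | h
        · obtain ⟨v, hv, rfl⟩ := Finset.mem_image.mp h
          exact hconjE v (Finset.mem_filter.mp hv).2
        · obtain ⟨o'', ho'', rfl⟩ := Finset.mem_image.mp h
          obtain ⟨v, hv, rfl⟩ := Finset.mem_image.mp ho''
          exact inv_mem (hconjE v (Finset.mem_filter.mp hv).2)
      · simp only [W, Finset.mem_insert, Finset.mem_singleton] at h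
        rcases h with rfl | rfl | rfl | rfl
        exacts [one_mem E, hwE, inv_mem hwE, hy]
    have := Finset.card_le_card hsub
    rw [Finset.card_union_of_disjoint hdW, Finset.card_union_of_disjoint hdisj, hO, hO', hyW,
      ← Fintype.card_subtype, ← Nat.card_eq_fintype_card] at this
    rw [show Nat.card {v // v ∈ E} = 9 from hE9] at this
    omega
  -- the involution normalizes the Sylow subgroup
  have hiw : i₀ * w * i₀⁻¹ ∈ Subgroup.zpowers w := by
    refine hEw _ ((Subgroup.mem_normalizer_iff.mp hiN w).mp hwE) (by simpa using hwne) fun i hi hc => ?_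
    refine hwodd (i₀⁻¹ * i * i₀⁻¹⁻¹) (by rw [orderOf_conj, hi]) ?_
    have := commute_conj (g := i₀⁻¹) hc
    rwa [show i₀⁻¹ * (i₀ * w * i₀⁻¹) * i₀⁻¹⁻¹ = w by group] at this
  set N := Subgroup.normalizer ((U : Subgroup G) : Set G)
  have hiN : i₀ ∈ N := by
    have h2 : i₀ * w * i₀⁻¹ = w ∨ i₀ * w * i₀⁻¹ = w⁻¹ := by
      rcases zpowers_three hw3 hiw with e | e | e
      · exact absurd (conj_eq_one_iff.mp e) hwne
      · exact Or.inl e
      · exact Or.inr e
    have h2' : i₀⁻¹ * w * i₀⁻¹⁻¹ = w ∨ i₀⁻¹ * w * i₀⁻¹⁻¹ = w⁻¹ := by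
      rw [inv_eq_of_mul_eq_one_right (show i₀ * i₀ = 1 by rw [← pow_two, ← hi₀, pow_orderOf_eq_one])]
      exact h2
    refine Subgroup.mem_normalizer_iff.mpr fun y => ?_
    show y ∈ (U : Subgroup G) ↔ _ ∈ (U : Subgroup G)
    rw [← hCw]
    refine ⟨conj_mem_cent h2, fun hy => ?_⟩
    have := conj_mem_cent h2' hy
    rwa [show i₀⁻¹ * (i₀ * y * i₀⁻¹) * i₀⁻¹⁻¹ = y by group] at this
  -- centre
  have hcenter : ∀ c ∈ (U : Subgroup G), (∀ u ∈ (U : Subgroup G), Commute u c) → c ∈ Subgroup.zpowers w := by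
    intro c hc hcc
    have hcE : c ∈ E := ⟨hc, Subgroup.mem_centralizer_singleton_iff.mpr (hcc z hzU).symm.eq⟩
    by_cases hc1 : c = 1
    · rw [hc1]; exact one_mem _
    refine hEw c hcE hc1 fun i hi hic => ?_
    have h9 : orderOf c ∣ 9 := by
      rw [← Subgroup.orderOf_mk c hcE, ← hE9]; exact orderOf_dvd_natCard _
    have h48 : orderOf c ∣ 48 := by
      rw [← Subgroup.orderOf_mk c (Subgroup.mem_centralizer_singleton_iff.mpr hic.symm.eq), ← H.cent2 i hi]
      exact orderOf_dvd_natCard _
    have h3 : orderOf c ∣ 3 := by simpa using Nat.dvd_gcd h9 h48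
    rcases (Nat.dvd_prime Nat.prime_three).mp h3 with h | h
    · exact hc1 (orderOf_eq_one_iff.mp h)
    · exact hcon ⟨U, c, i, hc, h, hi, hic, hcc⟩
  have hN54 : Nat.card N ∣ 54 ∧ 2 ∣ Nat.card N := by
    refine ⟨?_, by rw [← hi₀, ← Subgroup.orderOf_mk i₀ hiN]; exact orderOf_dvd_natCard _⟩
    -- the normalizer acts on the centre
    have hnorm : ∀ n ∈ N, n * w * n⁻¹ = w ∨ n * w * n⁻¹ = w⁻¹ := by
      intro n hn
      have hmem := (Subgroup.mem_normalizer_iff.mp hn w).mp hwU
      have := hcenter _ hmem fun u hu => by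
        have hu' : n⁻¹ * u * n ∈ (U : Subgroup G) :=
          (Subgroup.mem_normalizer_iff.mp hn _).mpr (by simpa [mul_assoc] using hu)
        have h := commute_conj (g := n) (hwc _ hu')
        rwa [show n * (n⁻¹ * u * n) * n⁻¹ = u by group] at h
      rcases zpowers_three hw3 this with e | e | e
      · exact absurd (conj_eq_one_iff.mp e) hwne
      · exact Or.inl e
      · exact Or.inr e
    let f : N → Bool := fun n => decide ((n : G) * w * (n : G)⁻¹ = w)
    haveI := Fintype.ofFinite G
    have hle : Nat.card N ≤ 54 := by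
      have hinj : Function.Injective (fun n : N =>
          (f n, (⟨if f n then (n : G) else (n : G) * i₀, ?_⟩ : Subgroup.centralizer ({w} : Set G)))) := ?_
      · have := Nat.card_le_card_of_injective _ hinj
        rw [Nat.card_prod, hCw, hU27] at this
        simpa using this
      · refine Subgroup.mem_centralizer_singleton_iff.mpr ?_
        by_cases h : (n : G) * w * (n : G)⁻¹ = w
        · rw [if_pos (by simpa [f] using h)]
          exact mul_inv_eq_iff_eq_mul.mp h
        · rw [if_neg (by simpa [f] using h)]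
          have hnw := (hnorm n n.2).resolve_left h
          have hiw' : i₀ * w * i₀⁻¹ = w⁻¹ := by
            rcases zpowers_three hw3 hiw with e | e | e
            · exact absurd (conj_eq_one_iff.mp e) hwne
            · exact absurd (mul_inv_eq_iff_eq_mul.mp e) (hwodd i₀ hi₀)
            · exact e
          refine mul_inv_eq_iff_eq_mul.mp ?_
          calc (n : G) * i₀ * w * ((n : G) * i₀)⁻¹ = (n : G) * (i₀ * w * i₀⁻¹) * (n : G)⁻¹ := by group
            _ = ((n : G) * w * (n : G)⁻¹)⁻¹ := by rw [hiw']; group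
            _ = w := by rw [hnw, inv_inv]
      · intro a b hab
        simp only [Prod.mk.injEq, Subtype.mk.injEq] at hab
        obtain ⟨h1, h2⟩ := hab
        rw [h1] at h2
        refine Subtype.ext ?_
        split_ifs at h2 with h
        · exact h2
        · exact mul_right_cancel h2
    have h27 := Subgroup.card_dvd_of_le (show (U : Subgroup G) ≤ N from Subgroup.le_normalizer)
    rw [hU27] at h27
    obtain ⟨q, hq⟩ := h27
    have hq0 : 0 < q := Nat.pos_of_ne_zero fun h => Nat.card_pos.ne' (hq.trans (by rw [h, mul_zero]))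
    have hq2 : q ≤ 2 := by omega
    interval_cases q <;> rw [hq] <;> norm_num
  have hmod : Nat.card (Sylow 3 G) % 3 = 1 := card_sylow_modEq_one 3 G
  rw [U.card_eq_index_normalizer] at hmod
  change N.index % 3 = 1 at hmod
  have h27 := Subgroup.card_dvd_of_le (show (U : Subgroup G) ≤ N from Subgroup.le_normalizer)
  rw [hU27] at h27
  have h54 : Nat.card N = 54 := Nat.dvd_antisymm hN54.1 (by
    rw [show (54 : ℕ) = 2 * 27 by norm_num]
    exact Nat.Coprime.mul_dvd_of_dvd_of_dvd (by norm_num) hN54.2 h27)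
  have hidx := N.card_mul_index
  rw [h54, H.card] at hidx
  omega

end CfsgLib.L33Invol
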