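import Cfsg.Agent.Lib.L33Invol.Local

set_option autoImplicit false
set_option maxHeartbeats 1000000

/-!
The two parabolic subgroups.
-/

namespace CfsgLib.L33Invol

variable {G : Type*} [Group G] [Finite G]

/-- The Borel configuration. -/
structure Borel (H : Hyp G) where
  U : Sylow 3 G
  z : G
  i : G
  s : G
  hzU : z ∈ (U : Subgroup G)
  hz : orderOf z = 3
  hi : orderOf i = 2
  hiz : Commute i z
  hc : ∀ u ∈ (U : Subgroup G), Commute u z
  hs : orderOf s = 2
  hsi : Commute s i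
  hne : s ≠ i
  hsz : s * z * s⁻¹ = z⁻¹

theorem Hyp.exists_borel (H : Hyp G) : Nonempty (Borel H) := by
  obtain ⟨U, z, i, hzU, hz, hi, hiz, hc⟩ := H.exists_central
  obtain ⟨s, hs, hsi, hne, hsz⟩ := H.inv3 i z hi hz hiz
  exact ⟨⟨U, z, i, s, hzU, hz, hi, hiz, hc, hs, hsi, hne, hsz⟩⟩

variable {H : Hyp G} (D : Borel H)

/-- The other inverting involution. -/
def Borel.swap : Borel H where
  U := D.U
  z := D.z
  i := D.i
  s := D.i * D.s
  hzU := D.hzU
  hz := D.hz
  hi := D.hi
  hiz := D.hiz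
  hc := D.hc
  hs := by
    haveI : Fact (Nat.Prime 2) := ⟨Nat.prime_two⟩
    have hii : D.i * D.i = 1 := by rw [← pow_two, ← D.hi, pow_orderOf_eq_one]
    have hss : D.s * D.s = 1 := by rw [← pow_two, ← D.hs, pow_orderOf_eq_one]
    refine orderOf_eq_prime ?_ fun h => D.hne ?_
    · calc (D.i * D.s) ^ 2 = D.i * (D.s * D.i) * D.s := by rw [pow_two]; group
        _ = D.i * D.i * (D.s * D.s) := by rw [D.hsi.eq]; group
        _ = 1 := by rw [hii, hss, mul_one]
    · exact (eq_inv_of_mul_eq_one_right h).trans (inv_eq_of_mul_eq_one_right hii)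
  hsi := (Commute.refl D.i).mul_left D.hsi
  hne := fun h => by
    have h1 : D.s = 1 := mul_left_cancel (h.trans (mul_one D.i).symm)
    have := D.hs
    rw [h1, orderOf_one] at this
    norm_num at this
  hsz := by
    calc D.i * D.s * D.z * (D.i * D.s)⁻¹ = D.i * (D.s * D.z * D.s⁻¹) * D.i⁻¹ := by group
      _ = D.z⁻¹ := by rw [D.hsz, D.hiz.inv_right.eq, mul_inv_cancel_right]

/-- The centralizer of the centre. -/
abbrev Borel.C : Subgroup G := Subgroup.centralizer ({D.z} : Set G)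

/-- The Borel subgroup. -/
abbrev Borel.B : Subgroup G := Subgroup.normalizer ((Subgroup.zpowers D.z : Subgroup G) : Set G)

theorem Borel.cardU : Nat.card D.U = 27 := H.sylow_card D.U

theorem Borel.U_le_C : (D.U : Subgroup G) ≤ D.C := fun u hu =>
  Subgroup.mem_centralizer_singleton_iff.mpr (D.hc u hu).eq

theorem Borel.cardC : Nat.card D.C = 54 := by
  obtain ⟨k, hk, hcz⟩ := H.cent_even D.hz D.hi D.hiz
  have h27 := Subgroup.card_dvd_of_le D.U_le_C
  rw [D.cardU, hcz] at h27
  simp only [List.mem_cons, List.not_mem_nil, or_false] at hk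
  rcases hk with rfl | rfl | rfl
  · norm_num at h27
  · norm_num at h27
  · rw [hcz]; norm_num

theorem Borel.C_two : Nat.card D.C = 2 * Nat.card (D.U : Subgroup G) := by
  rw [D.cardC, show Nat.card (D.U : Subgroup G) = 27 from D.cardU]

theorem Borel.odd_mem {y : G} (hy : y ∈ D.C) (ho : Odd (orderOf y)) : y ∈ (D.U : Subgroup G) :=
  pow_mem_of_index_two D.U_le_C D.C_two hy ho

theorem Borel.C_le_B : D.C ≤ D.B := fun x hx => by
  have key : ∀ c : G, Commute c D.z → ∀ y ∈ Subgroup.zpowers D.z, c * y * c⁻¹ = y := by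
    rintro c hc _ ⟨k, rfl⟩
    show c * D.z ^ k * c⁻¹ = D.z ^ k
    rw [(hc.zpow_right k).eq, mul_inv_cancel_right]
  refine Subgroup.mem_normalizer_iff.mpr fun y => ?_
  refine ⟨fun hy => by rw [key x (mem_cent hx) y hy]; exact hy, fun hy => ?_⟩
  have h := key x⁻¹ (mem_cent hx).inv_left _ hy
  rw [show x⁻¹ * (x * y * x⁻¹) * x⁻¹⁻¹ = y by group] at h
  rw [h]; exact hy

theorem Borel.mem_B_iff (x : G) : x ∈ D.B ↔ x * D.z * x⁻¹ = D.z ∨ x * D.z * x⁻¹ = D.z⁻¹ := by
  refine ⟨fun h => ?_, fun h => ?_⟩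
  · rcases zpowers_three D.hz ((Subgroup.mem_normalizer_iff.mp h _).mp (Subgroup.mem_zpowers _)) with e | e
    · exfalso
      have := D.hz
      rw [conj_eq_one_iff.mp e, orderOf_one] at this
      norm_num at this
    · exact e
  · have h' : x⁻¹ * D.z * x⁻¹⁻¹ = D.z ∨ x⁻¹ * D.z * x⁻¹⁻¹ = D.z⁻¹ := by
      rcases h with e | e
      · left; nth_rewrite 1 [← e]; group
      · right
        have e' : D.z = (x * D.z * x⁻¹)⁻¹ := by rw [e, inv_inv]
        nth_rewrite 1 [e']; group
    have key : ∀ c : G, (c * D.z * c⁻¹ = D.z ∨ c * D.z * c⁻¹ = D.z⁻¹) →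
        ∀ y ∈ Subgroup.zpowers D.z, c * y * c⁻¹ ∈ Subgroup.zpowers D.z := by
      rintro c hc _ ⟨k, rfl⟩
      show c * D.z ^ k * c⁻¹ ∈ _
      rw [← conj_zpow]
      refine zpow_mem ?_ k
      rcases hc with e | e <;> rw [e]
      · exact Subgroup.mem_zpowers _
      · exact inv_mem (Subgroup.mem_zpowers _)
    refine Subgroup.mem_normalizer_iff.mpr fun y => ⟨key x h y, fun hy => ?_⟩
    have := key x⁻¹ h' _ hy
    rwa [show x⁻¹ * (x * y * x⁻¹) * x⁻¹⁻¹ = y by group] at this

theorem Borel.s_mem_B : D.s ∈ D.B := (D.mem_B_iff _).mpr (Or.inr D.hsz)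

theorem Borel.z_inv_ne : D.z⁻¹ ≠ D.z := fun e => by
  have : D.z ^ 2 = 1 := by
    rw [pow_two]; nth_rewrite 2 [← e]; rw [mul_inv_cancel]
  have := orderOf_dvd_of_pow_eq_one this
  rw [D.hz] at this; norm_num at this

theorem Borel.cardB : Nat.card D.B = 108 := by
  classical
  have hcard : Nat.card D.B = Nat.card (Bool × D.C) := by
    refine Nat.card_eq_of_bijective (fun x : D.B =>
      ((decide ((x : G) * D.z * (x : G)⁻¹ = D.z)),
        (⟨if (x : G) * D.z * (x : G)⁻¹ = D.z then (x : G) else (x : G) * D.s, ?_⟩ : D.C))) ⟨?_, ?_⟩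
    · split_ifs with h
      · exact Subgroup.mem_centralizer_singleton_iff.mpr (mul_inv_eq_iff_eq_mul.mp h)
      · refine Subgroup.mem_centralizer_singleton_iff.mpr (mul_inv_eq_iff_eq_mul.mp ?_)
        calc (x : G) * D.s * D.z * ((x : G) * D.s)⁻¹ = (x : G) * (D.s * D.z * D.s⁻¹) * (x : G)⁻¹ := by group
          _ = ((x : G) * D.z * (x : G)⁻¹)⁻¹ := by rw [D.hsz]; group
          _ = D.z := by rw [((D.mem_B_iff _).mp x.2).resolve_left h, inv_inv]
    · intro a b hab
      simp only [Prod.mk.injEq, Subtype.mk.injEq, decide_eq_decide] at hab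
      obtain ⟨h1, h2⟩ := hab
      refine Subtype.ext ?_
      by_cases h : (a : G) * D.z * (a : G)⁻¹ = D.z
      · rw [if_pos h, if_pos (h1.mp h)] at h2; exact h2
      · rw [if_neg h, if_neg (mt h1.mpr h)] at h2; exact mul_right_cancel h2
    · rintro ⟨b, c⟩
      have hc := mul_inv_eq_iff_eq_mul.mpr (mem_cent c.2).eq
      cases b with
      | true => exact ⟨⟨c, D.C_le_B c.2⟩, Prod.ext (decide_eq_true hc) (Subtype.ext (if_pos hc))⟩
      | false =>
        have hss : D.s * D.s = 1 := by rw [← pow_two, ← D.hs, pow_orderOf_eq_one]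
        have hx : (c : G) * D.s * D.z * ((c : G) * D.s)⁻¹ ≠ D.z := by
          rw [show (c : G) * D.s * D.z * ((c : G) * D.s)⁻¹ = (c : G) * (D.s * D.z * D.s⁻¹) * (c : G)⁻¹ by group,
            D.hsz, show (c : G) * D.z⁻¹ * (c : G)⁻¹ = ((c : G) * D.z * (c : G)⁻¹)⁻¹ by group, hc]
          exact D.z_inv_ne
        exact ⟨⟨(c : G) * D.s, mul_mem (D.C_le_B c.2) D.s_mem_B⟩, Prod.ext (decide_eq_false hx)
          (Subtype.ext ((if_neg hx).trans (by rw [mul_assoc, hss, mul_one])))⟩
  rw [hcard, Nat.card_prod, D.cardC]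
  simp

theorem Borel.B_le_normalizer : D.B ≤ Subgroup.normalizer ((D.U : Subgroup G) : Set G) := by
  intro x hx
  have key : ∀ c ∈ D.B, ∀ y ∈ (D.U : Subgroup G), c * y * c⁻¹ ∈ (D.U : Subgroup G) := fun c hc y hy =>
    D.odd_mem (conj_mem_cent ((D.mem_B_iff c).mp hc) (D.U_le_C hy)) (by
      rw [orderOf_conj, ← Subgroup.orderOf_mk y hy]
      have hd := orderOf_dvd_natCard (⟨y, hy⟩ : (D.U : Subgroup G))
      rw [show Nat.card (D.U : Subgroup G) = 27 from D.cardU] at hd
      exact Odd.of_dvd_nat (by decide) hd)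
  refine Subgroup.mem_normalizer_iff.mpr fun y => ⟨key x hx y, fun hy => ?_⟩
  have := key x⁻¹ (inv_mem hx) _ hy
  rwa [show x⁻¹ * (x * y * x⁻¹) * x⁻¹⁻¹ = y by group] at this

/-- The fixed points of an involution normalizing the Sylow subgroup have order at most three. -/
theorem Borel.fixed_le {g : G} (hg : orderOf g = 2) :
    Nat.card ↥((D.U : Subgroup G) ⊓ Subgroup.centralizer ({g} : Set G)) ≤ 3 := by
  refine H.odd_le_three hg ?_ fun x hx => mem_cent hx.2
  rw [← D.cardU]; exact Subgroup.card_dvd_of_le inf_le_left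

omit [Finite G] in
theorem subgroupCent_mem {g x : G} : x ∈ Subgroup.centralizer ({g} : Set G) ↔ Commute x g :=
  Subgroup.mem_centralizer_singleton_iff

/-- An involution without fixed points inverts the Sylow subgroup. -/
theorem Borel.inverts {g : G} (hg : orderOf g = 2) (hn : g ∈ Subgroup.normalizer ((D.U : Subgroup G) : Set G))
    (hbot : (D.U : Subgroup G) ⊓ Subgroup.centralizer ({g} : Set G) = ⊥) :
    ∀ y ∈ (D.U : Subgroup G), g * y * g⁻¹ = y⁻¹ := by
  intro y hy
  let f : ↥(D.U : Subgroup G) → ↥(D.U : Subgroup G) := fun a => ⟨(a : G)⁻¹ * (g * a * g⁻¹),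
    (D.U : Subgroup G).mul_mem ((D.U : Subgroup G).inv_mem a.2) ((Subgroup.mem_normalizer_iff.mp hn _).mp a.2)⟩
  have hf : Function.Injective f := by
    intro a b hab
    have h := congrArg Subtype.val hab
    have hm : (b : G) * (a : G)⁻¹ ∈ (D.U : Subgroup G) ⊓ Subgroup.centralizer ({g} : Set G) :=
      ⟨(D.U : Subgroup G).mul_mem b.2 ((D.U : Subgroup G).inv_mem a.2), subgroupCent_mem.mpr (by
        have h' : (b : G) * (a : G)⁻¹ * (g * a * g⁻¹) = g * b * g⁻¹ := by
          rw [mul_assoc, show (a : G)⁻¹ * (g * a * g⁻¹) = (b : G)⁻¹ * (g * b * g⁻¹) from h]; group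
        show (b : G) * (a : G)⁻¹ * g = g * ((b : G) * (a : G)⁻¹)
        calc (b : G) * (a : G)⁻¹ * g = (b : G) * (a : G)⁻¹ * (g * a * g⁻¹) * (g * (a : G)⁻¹) := by group
          _ = g * b * g⁻¹ * (g * (a : G)⁻¹) := by rw [h']
          _ = g * ((b : G) * (a : G)⁻¹) := by group)⟩
    rw [hbot, Subgroup.mem_bot] at hm
    exact Subtype.ext (mul_inv_eq_one.mp hm).symm
  obtain ⟨a, ha⟩ := (Finite.injective_iff_surjective.mp hf) ⟨y, hy⟩
  have ha' : (a : G)⁻¹ * (g * a * g⁻¹) = y := congrArg Subtype.val ha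
  have hss : g * g = 1 := by rw [← pow_two, ← hg, pow_orderOf_eq_one]
  rw [← ha', inv_eq_of_mul_eq_one_right hss]
  calc g * ((a : G)⁻¹ * (g * a * g)) * g = g * (a : G)⁻¹ * g * a * (g * g) := by group
    _ = g * (a : G)⁻¹ * g * a := by rw [hss, mul_one]
    _ = ((a : G)⁻¹ * (g * a * g))⁻¹ := by
      rw [mul_inv_rev, mul_inv_rev, mul_inv_rev, inv_eq_of_mul_eq_one_right hss, inv_inv]; group

theorem Borel.i_normalizes : D.i ∈ Subgroup.normalizer ((D.U : Subgroup G) : Set G) :=
  D.B_le_normalizer (D.C_le_B (Subgroup.mem_centralizer_singleton_iff.mpr D.hiz.eq))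

/-- No involution inverts the Sylow subgroup: its product with `i` would fix nine elements. -/
theorem Borel.not_inverts {g : G} (hg : orderOf g = 2) :
    ¬ ∀ y ∈ (D.U : Subgroup G), g * y * g⁻¹ = y⁻¹ := by
  classical
  intro hinv
  haveI := Fintype.ofFinite G
  set k := g * D.i with hk
  have hkz : k * D.z * k⁻¹ = D.z⁻¹ := by
    calc k * D.z * k⁻¹ = g * (D.i * D.z * D.i⁻¹) * g⁻¹ := by rw [hk]; group
      _ = D.z⁻¹ := by rw [D.hiz.eq, mul_inv_cancel_right, hinv _ D.hzU]
  -- the order is even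
  have heven : 2 ∣ orderOf k := by
    by_contra h
    obtain ⟨m, hm⟩ := Nat.odd_iff.mpr (by omega : orderOf k % 2 = 1)
    have h2 : ∀ m : ℕ, k ^ (2 * m) * D.z * (k ^ (2 * m))⁻¹ = D.z := by
      intro m
      induction m with
      | zero => simp
      | succ m ih =>
        calc k ^ (2 * (m + 1)) * D.z * (k ^ (2 * (m + 1)))⁻¹
            = k * (k * (k ^ (2 * m) * D.z * (k ^ (2 * m))⁻¹) * k⁻¹) * k⁻¹ := by
              rw [show 2 * (m + 1) = (2 * m + 1) + 1 by omega, pow_succ', pow_succ']; group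
          _ = (k * D.z * k⁻¹)⁻¹ := by rw [ih, hkz]; rw [show k * D.z⁻¹ * k⁻¹ = (k * D.z * k⁻¹)⁻¹ by group, hkz]
          _ = D.z := by rw [hkz, inv_inv]
    have h1 := pow_orderOf_eq_one k
    rw [hm] at h1
    apply D.z_inv_ne
    calc D.z⁻¹ = k * D.z * k⁻¹ := hkz.symm
      _ = k * (k ^ (2 * m) * D.z * (k ^ (2 * m))⁻¹) * k⁻¹ := by rw [h2]
      _ = k ^ (2 * m + 1) * D.z * (k ^ (2 * m + 1))⁻¹ := by rw [pow_succ']; group
      _ = D.z := by rw [h1]; simp
  obtain ⟨m, hm⟩ := heven
  set j := k ^ m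
  have hj : orderOf j = 2 := by
    haveI : Fact (Nat.Prime 2) := ⟨Nat.prime_two⟩
    refine orderOf_eq_prime (by rw [← pow_mul, mul_comm, ← hm, pow_orderOf_eq_one]) fun h => ?_
    have := Nat.le_of_dvd (Nat.pos_of_ne_zero fun h0 => by
      have := orderOf_pos k; rw [hm, h0] at this; omega) (orderOf_dvd_of_pow_eq_one h)
    have := orderOf_pos k
    omega
  let I : Finset G := (Finset.univ.filter fun v => v ∈ (D.U : Subgroup G)).image fun v => v⁻¹ * (D.i * v * D.i⁻¹)
  have hI : 9 ≤ I.card := by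
    have h27 : (Finset.univ.filter fun v => v ∈ (D.U : Subgroup G)).card = 27 := by
      rw [← Fintype.card_subtype, ← Nat.card_eq_fintype_card]; exact D.cardU
    have hfib := Finset.card_le_mul_card_image (f := fun v => v⁻¹ * (D.i * v * D.i⁻¹))
      (Finset.univ.filter fun v => v ∈ (D.U : Subgroup G)) 3 fun o ho => by
      obtain ⟨v, hv, rfl⟩ := Finset.mem_image.mp ho
      simp only [Finset.mem_filter, Finset.mem_univ, true_and] at hv
      refine le_trans ?_ (D.fixed_le D.hi)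
      rw [Nat.card_eq_fintype_card, Fintype.card_subtype]
      refine Finset.card_le_card_of_injOn (fun q => q * v⁻¹) ?_ ((mul_left_injective v⁻¹).injOn)
      intro q hq
      simp only [Finset.coe_filter, Finset.mem_filter, Finset.mem_univ, true_and, Set.mem_setOf_eq] at hq ⊢
      refine ⟨(D.U : Subgroup G).mul_mem hq.1 ((D.U : Subgroup G).inv_mem hv), subgroupCent_mem.mpr ?_⟩
      have h' : q * v⁻¹ * (D.i * v * D.i⁻¹) = D.i * q * D.i⁻¹ := by
        rw [mul_assoc, ← hq.2]; group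
      show q * v⁻¹ * D.i = D.i * (q * v⁻¹)
      calc q * v⁻¹ * D.i = q * v⁻¹ * (D.i * v * D.i⁻¹) * (D.i * v⁻¹) := by group
        _ = D.i * q * D.i⁻¹ * (D.i * v⁻¹) := by rw [h']
        _ = D.i * (q * v⁻¹) := by group
    rw [h27] at hfib
    show 9 ≤ (Finset.image (fun v => v⁻¹ * (D.i * v * D.i⁻¹)) _).card
    omega
  have hsub : I ⊆ Finset.univ.filter fun v =>
      v ∈ (D.U : Subgroup G) ⊓ Subgroup.centralizer ({j} : Set G) := by
    intro o ho
    obtain ⟨v, hv, rfl⟩ := Finset.mem_image.mp ho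
    simp only [Finset.mem_filter, Finset.mem_univ, true_and] at hv ⊢
    have hmem : v⁻¹ * (D.i * v * D.i⁻¹) ∈ (D.U : Subgroup G) :=
      (D.U : Subgroup G).mul_mem ((D.U : Subgroup G).inv_mem hv)
        ((Subgroup.mem_normalizer_iff.mp D.i_normalizes _).mp hv)
    refine ⟨hmem, subgroupCent_mem.mpr ?_⟩
    have hii : D.i * D.i = 1 := by rw [← pow_two, ← D.hi, pow_orderOf_eq_one]
    set o := v⁻¹ * (D.i * v * D.i⁻¹) with ho
    have e2 : D.i * o * D.i⁻¹ = o⁻¹ := by
      rw [ho, inv_eq_of_mul_eq_one_right hii, mul_inv_rev, mul_inv_rev, mul_inv_rev,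
        inv_eq_of_mul_eq_one_right hii, inv_inv]
      calc D.i * (v⁻¹ * (D.i * v * D.i)) * D.i = D.i * v⁻¹ * D.i * v * (D.i * D.i) := by group
        _ = D.i * v⁻¹ * D.i * v := by rw [hii, mul_one]
        _ = D.i * (v⁻¹ * D.i) * v := by group
    have hko : Commute k o := by
      show k * o = o * k
      have h1 := hinv _ ((D.U : Subgroup G).inv_mem hmem)
      rw [inv_inv] at h1
      calc k * o = g * (D.i * o * D.i⁻¹) * g⁻¹ * k := by rw [hk]; group
        _ = o * k := by rw [e2, h1]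
    exact (hko.pow_left m).symm
  have h := Finset.card_le_card hsub
  rw [← Fintype.card_subtype, ← Nat.card_eq_fintype_card] at h
  exact absurd (hI.trans (h.trans (D.fixed_le hj))) (by norm_num)

/-- The fixed points of a normalizing involution. -/
theorem Borel.fixed_three {g : G} (hg : orderOf g = 2)
    (hn : g ∈ Subgroup.normalizer ((D.U : Subgroup G) : Set G)) :
    ∃ a, orderOf a = 3 ∧ Subgroup.zpowers a = (D.U : Subgroup G) ⊓ Subgroup.centralizer ({g} : Set G) := by
  haveI : Fact (Nat.Prime 3) := ⟨Nat.prime_three⟩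
  set F := (D.U : Subgroup G) ⊓ Subgroup.centralizer ({g} : Set G) with hF
  have hne : F ≠ ⊥ := fun hbot => D.not_inverts hg (D.inverts hg hn hbot)
  have hcard : Nat.card F = 3 := by
    have h1 := Subgroup.card_dvd_of_le (inf_le_left : F ≤ (D.U : Subgroup G))
    rw [show Nat.card (D.U : Subgroup G) = 27 from D.cardU] at h1
    have h2 : 1 < Nat.card F := (Subgroup.one_lt_card_iff_ne_bot F).mpr hne
    have h3 := D.fixed_le hg
    rw [← hF] at h3
    exact (by decide +kernel : ∀ m ∈ Nat.divisors 27, 1 < m → m ≤ 3 → m = 3) _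
      (Nat.mem_divisors.mpr ⟨h1, by norm_num⟩) h2 h3
  obtain ⟨a, ha⟩ := exists_prime_orderOf_dvd_card' (G := F) 3 (by rw [hcard])
  rw [← Subgroup.orderOf_coe] at ha
  exact ⟨a, ha, Subgroup.eq_of_le_of_card_ge (Subgroup.zpowers_le.mpr a.2) (by rw [hcard, three_card ha])⟩

/-- An involution inverting the centre fixes a further element of order three. -/
theorem Borel.exists_fixed : ∃ a, a ∈ (D.U : Subgroup G) ∧ orderOf a = 3 ∧ Commute D.s a ∧
    a ∉ Subgroup.zpowers D.z ∧ ∀ y ∈ (D.U : Subgroup G), Commute y D.s → y ∈ Subgroup.zpowers a := by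
  obtain ⟨a, ha, haF⟩ := D.fixed_three D.hs (D.B_le_normalizer D.s_mem_B)
  have hmem : a ∈ (D.U : Subgroup G) ⊓ Subgroup.centralizer ({D.s} : Set G) := haF ▸ Subgroup.mem_zpowers a
  refine ⟨a, hmem.1, ha, (mem_cent hmem.2).symm, fun h => ?_, fun y hy hys => ?_⟩
  · have hcom : Commute D.s a := (mem_cent hmem.2).symm
    have e : D.s * a * D.s⁻¹ = a := mul_inv_eq_iff_eq_mul.mpr hcom.eq
    rcases zpowers_three D.hz h with h' | h' | h'
    · rw [h', orderOf_one] at ha; norm_num at ha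
    · rw [h', D.hsz] at e; exact D.z_inv_ne e
    · rw [h', show D.s * D.z⁻¹ * D.s⁻¹ = (D.s * D.z * D.s⁻¹)⁻¹ by group, D.hsz, inv_inv] at e
      exact D.z_inv_ne e.symm
  · rw [haF]; exact ⟨hy, subgroupCent_mem.mpr hys⟩

/-- The fixed element. -/
noncomputable def Borel.a : G := D.exists_fixed.choose

theorem Borel.a_spec : D.a ∈ (D.U : Subgroup G) ∧ orderOf D.a = 3 ∧ Commute D.s D.a ∧
    D.a ∉ Subgroup.zpowers D.z ∧ ∀ y ∈ (D.U : Subgroup G), Commute y D.s → y ∈ Subgroup.zpowers D.a :=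
  D.exists_fixed.choose_spec

theorem Borel.U_le_B : (D.U : Subgroup G) ≤ D.B := D.U_le_C.trans D.C_le_B

theorem Borel.normalizer_card : Nat.card (Subgroup.normalizer ((D.U : Subgroup G) : Set G)) = 108 ∨
    Nat.card (Subgroup.normalizer ((D.U : Subgroup G) : Set G)) = 432 := by
  classical
  haveI : Fact (Nat.Prime 3) := ⟨Nat.prime_three⟩
  set N := Subgroup.normalizer ((D.U : Subgroup G) : Set G)
  have hd := Subgroup.card_dvd_of_le D.B_le_normalizer
  rw [D.cardB] at hd
  have hmod : Nat.card (Sylow 3 G) % 3 = 1 := card_sylow_modEq_one 3 G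
  rw [D.U.card_eq_index_normalizer] at hmod
  change N.index % 3 = 1 at hmod
  have hNG := N.card_mul_index
  rw [H.card] at hNG
  obtain ⟨q, hq⟩ := hd
  have hidx : N.index ∣ 52 := ⟨q, by
    rw [hq] at hNG
    have : 108 * (N.index * q) = 108 * 52 := by rw [show 108 * (N.index * q) = 108 * q * N.index by ring, hNG]
    omega⟩
  have hcases := (by decide +kernel : ∀ m ∈ Nat.divisors 52, m % 3 = 1 → m = 1 ∨ m = 4 ∨ m = 13 ∨ m = 52) _
    (Nat.mem_divisors.mpr ⟨hidx, by norm_num⟩) hmod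
  rcases hcases with h | h | h | h
  · exfalso
    have := H.normal_eq (Subgroup.normalizer_eq_top_iff.mp (Subgroup.index_eq_one.mp h))
      (by rw [show Nat.card (D.U : Subgroup G) = 27 from D.cardU]; norm_num)
    rw [show Nat.card (D.U : Subgroup G) = 27 from D.cardU] at this
    norm_num at this
  · exfalso
    -- no action on four points
    haveI := H.simple
    rcases (Subgroup.normalCore_normal N).eq_bot_or_eq_top with e | e
    · let φ := MulAction.toPermHom G (G ⧸ N)
      have hφ : Function.Injective φ := by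
        rw [← MonoidHom.ker_eq_bot_iff, ← Subgroup.normalCore_eq_ker, e]
      have := Nat.card_le_card_of_injective φ hφ
      rw [H.card, Nat.card_perm, ← Subgroup.index_eq_card, h] at this
      norm_num [Nat.factorial] at this
    · have := N.normalCore_le
      rw [e, top_le_iff] at this
      rw [this, Subgroup.index_top] at h
      norm_num at h
  · right; rw [h] at hNG; omega
  · left; rw [h] at hNG; omega

theorem Borel.not_comm : ∃ u ∈ (D.U : Subgroup G), ¬ Commute u D.a := by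
  classical
  haveI : Fact (Nat.Prime 3) := ⟨Nat.prime_three⟩
  haveI : Fact (Nat.Prime 2) := ⟨Nat.prime_two⟩
  by_contra hcon
  push Not at hcon
  obtain ⟨haU, ha3, hsa, hanz, hfix⟩ := D.a_spec
  set N := Subgroup.normalizer ((D.U : Subgroup G) : Set G)
  rcases D.normalizer_card with h | h
  · -- fusion is controlled by the normalizer
    have hNB : D.B = N := Subgroup.eq_of_le_of_card_ge D.B_le_normalizer (by rw [D.cardB, h])
    obtain ⟨g, hg⟩ := isConj_iff.mp (H.conj3 D.i D.z D.s D.a D.hi D.hz D.hiz D.hs ha3 hsa)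
    have hcentz : D.z ∈ Subgroup.centralizer ((D.U : Subgroup G) : Set G) :=
      Subgroup.mem_centralizer_iff.mpr fun y hy => (D.hc y hy).eq
    have hcenta : g⁻¹⁻¹ * D.z * g⁻¹ ∈ Subgroup.centralizer ((D.U : Subgroup G) : Set G) := by
      rw [inv_inv, hg]
      exact Subgroup.mem_centralizer_iff.mpr fun y hy => (hcon y hy).eq
    obtain ⟨n, hn, hne⟩ := D.U.conj_eq_normalizer_conj_of_mem_centralizer D.z g⁻¹ hcentz hcenta
    rw [inv_inv, hg] at hne
    have hn' : n⁻¹ ∈ D.B := by rw [hNB]; exact inv_mem hn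
    rcases (D.mem_B_iff _).mp hn' with e | e <;> rw [inv_inv] at e <;> rw [e] at hne
    · exact hanz (hne ▸ Subgroup.mem_zpowers _)
    · exact hanz (hne ▸ inv_mem (Subgroup.mem_zpowers _))
  · -- a central involution of a Sylow 2-subgroup fixes a point
    obtain ⟨T, hT⟩ := Sylow.exists_subgroup_card_pow_prime 2 (n := 4) (G := N) (by rw [h]; norm_num)
    haveI : Nontrivial T := Finite.one_lt_card_iff_nontrivial.mp (by rw [hT]; norm_num)
    haveI := (IsPGroup.of_card hT).center_nontrivial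
    obtain ⟨c₁, hc₁⟩ := exists_prime_orderOf_dvd_card' (G := Subgroup.center T) 2 (by
      obtain ⟨k, hk0, hk⟩ := ((IsPGroup.of_card hT).to_subgroup (Subgroup.center _)).nontrivial_iff_card.1 inferInstance
      rw [hk]; exact dvd_pow_self 2 hk0.ne')
    set c : G := (((c₁ : T) : N) : G) with hcdef
    have hc2 : orderOf c = 2 := by
      rw [hcdef, Subgroup.orderOf_coe, Subgroup.orderOf_coe, Subgroup.orderOf_coe, hc₁]
    have hcN : c ∈ N := ((c₁ : T) : N).2
    have hTc : ∀ y ∈ T.map N.subtype, Commute y c := by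
      rintro _ ⟨y, hy, rfl⟩
      exact congrArg (fun q : T => ((q : N) : G)) (Subgroup.mem_center_iff.mp c₁.2 ⟨y, hy⟩)
    obtain ⟨b, hb, hbF⟩ := D.fixed_three hc2 hcN
    have hbm : b ∈ (D.U : Subgroup G) ⊓ Subgroup.centralizer ({c} : Set G) := hbF ▸ Subgroup.mem_zpowers b
    obtain ⟨g, hg⟩ := isConj_iff.mp (H.conj3 D.i D.z c b D.hi D.hz D.hiz hc2 hb (mem_cent hbm.2).symm)
    have hle : (T.map N.subtype).map (MulAut.conj g⁻¹).toMonoidHom ≤ D.B := by
      rintro _ ⟨y, hy, rfl⟩
      show g⁻¹ * y * g⁻¹⁻¹ ∈ D.B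
      have hyN : y ∈ N := Subgroup.map_subtype_le T hy
      have hyb : y * b * y⁻¹ ∈ Subgroup.zpowers b := by
        rw [hbF]
        refine ⟨(Subgroup.mem_normalizer_iff.mp hyN b).mp hbm.1, subgroupCent_mem.mpr ?_⟩
        have h := commute_conj (g := y) (mem_cent hbm.2)
        rwa [(hTc y hy).eq, mul_inv_cancel_right] at h
      refine (D.mem_B_iff _).mpr ?_
      rcases zpowers_three hb hyb with e | e | e
      · exact absurd (conj_eq_one_iff.mp e) (fun h => by rw [h, orderOf_one] at hb; norm_num at hb)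
      · left
        calc g⁻¹ * y * g⁻¹⁻¹ * D.z * (g⁻¹ * y * g⁻¹⁻¹)⁻¹ = g⁻¹ * (y * (g * D.z * g⁻¹) * y⁻¹) * g := by group
          _ = g⁻¹ * b * g := by rw [hg, e]
          _ = D.z := by rw [← hg]; group
      · right
        calc g⁻¹ * y * g⁻¹⁻¹ * D.z * (g⁻¹ * y * g⁻¹⁻¹)⁻¹ = g⁻¹ * (y * (g * D.z * g⁻¹) * y⁻¹) * g := by group
          _ = g⁻¹ * b⁻¹ * g := by rw [hg, e]
          _ = D.z⁻¹ := by rw [← hg]; group
    have h16 := Subgroup.card_dvd_of_le hle
    rw [Subgroup.card_map_of_injective (MulAut.conj g⁻¹).injective,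
      Subgroup.card_map_of_injective N.subtype_injective, hT, D.cardB] at h16
    norm_num at h16

theorem Borel.center_mem {y : G} (hy : y ∈ (D.U : Subgroup G)) (hc : ∀ u ∈ (D.U : Subgroup G), Commute u y) :
    y ∈ Subgroup.zpowers D.z := by
  obtain ⟨u, hu, hua⟩ := D.not_comm
  by_contra hy'
  apply hua
  -- two central elements generate a central subgroup of order at least nine
  set Z := (D.U : Subgroup G) ⊓ Subgroup.centralizer ((D.U : Subgroup G) : Set G) with hZ
  have hzZ : D.z ∈ Z := ⟨D.hzU, Subgroup.mem_centralizer_iff.mpr fun v hv => (D.hc v hv).eq⟩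
  have hyZ : y ∈ Z := ⟨hy, Subgroup.mem_centralizer_iff.mpr fun v hv => (hc v hv).eq⟩
  set K := Z ⊔ Subgroup.zpowers D.a with hK
  have hKU : K ≤ (D.U : Subgroup G) := sup_le inf_le_left (Subgroup.zpowers_le.mpr D.a_spec.1)
  have hKa : K ≤ Subgroup.centralizer ({D.a} : Set G) := sup_le (fun v hv => subgroupCent_mem.mpr
    ((Subgroup.mem_centralizer_iff.mp hv.2 _ D.a_spec.1).symm))
    (Subgroup.zpowers_le.mpr (subgroupCent_mem.mpr (Commute.refl _)))
  have h27 : (D.U : Subgroup G) = K := by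
    refine (Subgroup.eq_of_le_of_card_ge hKU ?_).symm
    have hZd := Subgroup.card_dvd_of_le (inf_le_left : Z ≤ (D.U : Subgroup G))
    have hKd := Subgroup.card_dvd_of_le hKU
    rw [show Nat.card (D.U : Subgroup G) = 27 from D.cardU] at hZd hKd ⊢
    have hZ3 : 3 < Nat.card Z := by
      by_contra h
      push Not at h
      have e := Subgroup.eq_of_le_of_card_ge (Subgroup.zpowers_le.mpr hzZ) (by rw [three_card D.hz]; exact h)
      exact hy' (e.symm.le hyZ)
    have hlt : Nat.card Z < Nat.card K := by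
      by_contra h
      push Not at h
      have e := Subgroup.eq_of_le_of_card_ge (le_sup_left : Z ≤ K) h
      have haZ : D.a ∈ Z := e.symm.le ((le_sup_right : Subgroup.zpowers D.a ≤ K) (Subgroup.mem_zpowers _))
      exact hua (Subgroup.mem_centralizer_iff.mp haZ.2 u hu)
    exact ((by decide +kernel : ∀ m ∈ Nat.divisors 27, ∀ k ∈ Nat.divisors 27, 3 < m → m < k → k = 27) _
      (Nat.mem_divisors.mpr ⟨hZd, by norm_num⟩) _ (Nat.mem_divisors.mpr ⟨hKd, by norm_num⟩) hZ3 hlt).ge
  exact mem_cent (hKa (h27.le hu))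

theorem no_odd_invert {z v : G} (hz : z⁻¹ ≠ z) (hv : Odd (orderOf v)) (h : v * z * v⁻¹ = z⁻¹) : False := by
  obtain ⟨m, hm⟩ := hv
  have h2 : ∀ m : ℕ, v ^ (2 * m) * z * (v ^ (2 * m))⁻¹ = z := by
    intro m
    induction m with
    | zero => simp
    | succ m ih =>
      calc v ^ (2 * (m + 1)) * z * (v ^ (2 * (m + 1)))⁻¹
          = v * (v * (v ^ (2 * m) * z * (v ^ (2 * m))⁻¹) * v⁻¹) * v⁻¹ := by
            rw [show 2 * (m + 1) = (2 * m + 1) + 1 by omega, pow_succ', pow_succ']; group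
        _ = (v * z * v⁻¹)⁻¹ := by rw [ih, h]; rw [show v * z⁻¹ * v⁻¹ = (v * z * v⁻¹)⁻¹ by group, h]
        _ = z := by rw [h, inv_inv]
  have h1 := pow_orderOf_eq_one v
  rw [hm] at h1
  apply hz
  calc z⁻¹ = v * z * v⁻¹ := h.symm
    _ = v * (v ^ (2 * m) * z * (v ^ (2 * m))⁻¹) * v⁻¹ := by rw [h2]
    _ = v ^ (2 * m + 1) * z * (v ^ (2 * m + 1))⁻¹ := by rw [pow_succ']; group
    _ = z := by rw [h1]; simp

/-- The normalizer of the Sylow subgroup is the Borel subgroup. -/
theorem Borel.U_not_432 : Nat.card (Subgroup.normalizer ((D.U : Subgroup G) : Set G)) ≠ 432 := by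
  intro h
  obtain ⟨u, hu, hua⟩ := D.not_comm
  have hle : Subgroup.normalizer ((D.U : Subgroup G) : Set G) ≤ D.B := by
    intro n hn
    refine (D.mem_B_iff n).mpr ?_
    have hcen : ∀ y ∈ (D.U : Subgroup G), Commute y (n * D.z * n⁻¹) := by
      intro y hy
      have hy' : n⁻¹ * y * n ∈ (D.U : Subgroup G) :=
        (Subgroup.mem_normalizer_iff.mp hn _).mpr (by
          rw [show n * (n⁻¹ * y * n) * n⁻¹ = y by group]; exact hy)
      have h := commute_conj (g := n) (D.hc _ hy')
      rwa [show n * (n⁻¹ * y * n) * n⁻¹ = y by group] at h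
    have hm : n * D.z * n⁻¹ ∈ Subgroup.zpowers D.z := by
      refine D.center_mem ((Subgroup.mem_normalizer_iff.mp hn _).mp D.hzU) hcen
    rcases zpowers_three D.hz hm with e | e
    · exfalso
      have := D.hz
      rw [conj_eq_one_iff.mp e, orderOf_one] at this
      norm_num at this
    · exact e
  have := Subgroup.card_le_of_le hle
  rw [h, D.cardB] at this
  norm_num at this

/-- The elementary subgroup. -/
noncomputable abbrev Borel.E : Subgroup G := (D.U : Subgroup G) ⊓ Subgroup.centralizer ({D.a} : Set G)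

theorem Borel.zE : D.z ∈ D.E :=
  ⟨D.hzU, subgroupCent_mem.mpr (D.hc _ D.a_spec.1).symm⟩

theorem Borel.aE : D.a ∈ D.E := ⟨D.a_spec.1, subgroupCent_mem.mpr (Commute.refl _)⟩

theorem Borel.cardE : Nat.card D.E = 9 := by
  have hd := Subgroup.card_dvd_of_le (inf_le_left : D.E ≤ (D.U : Subgroup G))
  rw [show Nat.card (D.U : Subgroup G) = 27 from D.cardU] at hd
  have h3 : 3 ∣ Nat.card D.E := by
    rw [← three_card D.hz]; exact Subgroup.card_dvd_of_le (Subgroup.zpowers_le.mpr D.zE)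
  rcases (by decide +kernel : ∀ m ∈ Nat.divisors 27, 3 ∣ m → m = 3 ∨ m = 9 ∨ m = 27) _
    (Nat.mem_divisors.mpr ⟨hd, by norm_num⟩) h3 with h | h | h
  · refine absurd ?_ D.a_spec.2.2.2.1
    have e := Subgroup.eq_of_le_of_card_ge (Subgroup.zpowers_le.mpr D.zE) (by rw [h, three_card D.hz])
    rw [e]; exact D.aE
  · exact h
  · obtain ⟨u, hu, hua⟩ := D.not_comm
    refine absurd ?_ hua
    have e := Subgroup.eq_of_le_of_card_ge (inf_le_left : D.E ≤ (D.U : Subgroup G))
      (by rw [h, show Nat.card (D.U : Subgroup G) = 27 from D.cardU])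
    exact mem_cent (e.symm.le hu : u ∈ D.E).2

theorem Borel.E_comm {x y : G} (hx : x ∈ D.E) (hy : y ∈ D.E) : Commute x y := by
  haveI : Fact (Nat.Prime 3) := ⟨Nat.prime_three⟩
  exact congrArg Subtype.val
    (IsPGroup.commutative_of_card_eq_prime_sq (p := 3) (G := D.E) (by rw [D.cardE]; norm_num) ⟨x, hx⟩ ⟨y, hy⟩)

theorem Borel.odd_of_U {y : G} (hy : y ∈ (D.U : Subgroup G)) : Odd (orderOf y) := by
  have hd := orderOf_dvd_natCard (⟨y, hy⟩ : (D.U : Subgroup G))
  rw [Subgroup.orderOf_mk, show Nat.card (D.U : Subgroup G) = 27 from D.cardU] at hd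
  exact Odd.of_dvd_nat (by decide) hd

theorem Borel.centE : Subgroup.centralizer ((D.E : Subgroup G) : Set G) = D.E := by
  haveI : Fact (Nat.Prime 2) := ⟨Nat.prime_two⟩
  refine le_antisymm (fun x hx => ?_) fun x hx => Subgroup.mem_centralizer_iff.mpr fun y hy => (D.E_comm hy hx).eq
  have hc : ∀ y ∈ D.E, Commute x y := fun y hy => (Subgroup.mem_centralizer_iff.mp hx y hy).symm
  have hxC : x ∈ D.C := subgroupCent_mem.mpr (hc _ D.zE)
  have hodd : Odd (orderOf x) := by
    rw [Nat.odd_iff]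
    by_contra h
    obtain ⟨m, hm⟩ : 2 ∣ orderOf x := by omega
    have hpos := orderOf_pos x
    have hj : orderOf (x ^ m) = 2 := by
      refine orderOf_eq_prime (by rw [← pow_mul, mul_comm, ← hm, pow_orderOf_eq_one]) fun h1 => ?_
      have := Nat.le_of_dvd (by omega) (orderOf_dvd_of_pow_eq_one h1)
      omega
    have := H.odd_le_three hj (K := D.E) (by rw [D.cardE]; norm_num) fun y hy => ((hc y hy).pow_left m).symm
    rw [D.cardE] at this
    omega
  exact ⟨D.odd_mem hxC hodd, subgroupCent_mem.mpr (hc _ D.aE)⟩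

theorem Borel.E_eq_sup : D.E = Subgroup.zpowers D.z ⊔ Subgroup.zpowers D.a := by
  refine (Subgroup.eq_of_le_of_card_ge (sup_le (Subgroup.zpowers_le.mpr D.zE) (Subgroup.zpowers_le.mpr D.aE)) ?_).symm
  have hd := Subgroup.card_dvd_of_le (sup_le (Subgroup.zpowers_le.mpr D.zE) (Subgroup.zpowers_le.mpr D.aE) :
    Subgroup.zpowers D.z ⊔ Subgroup.zpowers D.a ≤ D.E)
  have h3 := Subgroup.card_dvd_of_le (le_sup_left : Subgroup.zpowers D.z ≤ Subgroup.zpowers D.z ⊔ Subgroup.zpowers D.a)
  rw [D.cardE] at hd ⊢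
  rw [three_card D.hz] at h3
  rcases (by decide +kernel : ∀ m ∈ Nat.divisors 9, 3 ∣ m → m = 3 ∨ m = 9) _
    (Nat.mem_divisors.mpr ⟨hd, by norm_num⟩) h3 with e | e
  · refine absurd ?_ D.a_spec.2.2.2.1
    have h := Subgroup.eq_of_le_of_card_ge
      (le_sup_left : Subgroup.zpowers D.z ≤ Subgroup.zpowers D.z ⊔ Subgroup.zpowers D.a) (by rw [e, three_card D.hz])
    exact h.symm.le ((le_sup_right : Subgroup.zpowers D.a ≤ _) (Subgroup.mem_zpowers _))
  · exact e.ge

/-- The parabolic subgroup. -/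
noncomputable def Borel.P : Subgroup G := Subgroup.normalizer ((D.E : Subgroup G) : Set G)

theorem Borel.U_le_P : (D.U : Subgroup G) ≤ D.P := by
  haveI : Fact (Nat.Prime 3) := ⟨Nat.prime_three⟩
  have hi3 : (D.E.subgroupOf (D.U : Subgroup G)).index = 3 := by
    have h := (D.E.subgroupOf (D.U : Subgroup G)).card_mul_index
    rw [Nat.card_congr (Subgroup.subgroupOfEquivOfLe (inf_le_left : D.E ≤ (D.U : Subgroup G))).toEquiv, D.cardE,
      show Nat.card (D.U : Subgroup G) = 27 from D.cardU] at h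
    omega
  haveI : (D.E.subgroupOf (D.U : Subgroup G)).Normal := Subgroup.normal_of_index_eq_minFac_card
    (by rw [hi3, show Nat.card (D.U : Subgroup G) = 27 from D.cardU]; norm_num)
  exact (Subgroup.normal_subgroupOf_iff_le_normalizer inf_le_left).mp inferInstance

theorem Borel.mem_P {x : G} (hU : x ∈ Subgroup.normalizer ((D.U : Subgroup G) : Set G))
    (ha : x * D.a * x⁻¹ ∈ Subgroup.zpowers D.a) : x ∈ D.P := by
  have ha' : x * D.a * x⁻¹ = D.a ∨ x * D.a * x⁻¹ = D.a⁻¹ := by
    rcases zpowers_three D.a_spec.2.1 ha with e | e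
    · exfalso
      have := D.a_spec.2.1
      rw [conj_eq_one_iff.mp e, orderOf_one] at this
      norm_num at this
    · exact e
  refine Subgroup.mem_normalizer_iff.mpr fun y => ⟨fun hy => ?_, fun hy => ?_⟩
  · exact ⟨(Subgroup.mem_normalizer_iff.mp hU y).mp hy.1, conj_mem_cent ha' hy.2⟩
  · refine ⟨(Subgroup.mem_normalizer_iff.mp hU y).mpr hy.1, ?_⟩
    have h' : x⁻¹ * D.a * x⁻¹⁻¹ = D.a ∨ x⁻¹ * D.a * x⁻¹⁻¹ = D.a⁻¹ := by
      rcases ha' with e | e
      · left; nth_rewrite 1 [← e]; group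
      · right
        have e' : D.a = (x * D.a * x⁻¹)⁻¹ := by rw [e, inv_inv]
        nth_rewrite 1 [e']; group
    have := conj_mem_cent h' hy.2
    rwa [show x⁻¹ * (x * y * x⁻¹) * x⁻¹⁻¹ = y by group] at this

theorem Borel.s_mem_P : D.s ∈ D.P := D.mem_P (D.B_le_normalizer D.s_mem_B) (by
  rw [D.a_spec.2.2.1.eq, mul_inv_cancel_right]; exact Subgroup.mem_zpowers _)

theorem Borel.i_a : D.i * D.a * D.i⁻¹ = D.a⁻¹ := by
  obtain ⟨haU, ha3, hsa, hanz, hfix⟩ := D.a_spec
  have hc : Commute (D.i * D.a * D.i⁻¹) D.s := by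
    have h := (commute_conj (g := D.i) hsa).symm
    rwa [D.hsi.symm.eq, mul_inv_cancel_right] at h
  have hmem := hfix _ ((Subgroup.mem_normalizer_iff.mp D.i_normalizes _).mp haU) hc
  rcases zpowers_three ha3 hmem with e | e | e
  · exfalso
    rw [conj_eq_one_iff.mp e, orderOf_one] at ha3
    norm_num at ha3
  · -- `a` would be a fixed point of `i`
    exfalso
    have hci : Commute D.a D.i := (mul_inv_eq_iff_eq_mul.mp e).symm
    have hsub : Subgroup.zpowers D.z ⊔ Subgroup.zpowers D.a ≤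
        (D.U : Subgroup G) ⊓ Subgroup.centralizer ({D.i} : Set G) :=
      sup_le (Subgroup.zpowers_le.mpr ⟨D.hzU, subgroupCent_mem.mpr D.hiz.symm⟩)
        (Subgroup.zpowers_le.mpr ⟨haU, subgroupCent_mem.mpr hci⟩)
    have h3 := (Subgroup.card_le_of_le hsub).trans (D.fixed_le D.hi)
    refine hanz ?_
    have e := Subgroup.eq_of_le_of_card_ge (le_sup_left : Subgroup.zpowers D.z ≤ _) (by rw [three_card D.hz]; exact h3)
    rw [e]
    exact (le_sup_right : Subgroup.zpowers D.a ≤ _) (Subgroup.mem_zpowers _)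
  · exact e

theorem Borel.i_mem_P : D.i ∈ D.P := D.mem_P D.i_normalizes (by
  rw [D.i_a]; exact inv_mem (Subgroup.mem_zpowers _))

theorem Borel.B_le_P : D.B ≤ D.P := by
  intro x hx
  have hK : D.C ⊓ D.P = D.C := by
    refine Subgroup.eq_of_le_of_card_ge inf_le_left ?_
    have h27 := Subgroup.card_dvd_of_le (le_inf D.U_le_C D.U_le_P)
    have h2 : 2 ∣ Nat.card ↥(D.C ⊓ D.P) := by
      rw [← D.hi, ← Subgroup.orderOf_mk D.i (show D.i ∈ D.C ⊓ D.P from ⟨subgroupCent_mem.mpr D.hiz, D.i_mem_P⟩)]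
      exact orderOf_dvd_natCard _
    rw [show Nat.card (D.U : Subgroup G) = 27 from D.cardU] at h27
    have h54 : 2 * 27 ∣ Nat.card ↥(D.C ⊓ D.P) := Nat.Coprime.mul_dvd_of_dvd_of_dvd (by norm_num) h2 h27
    rw [D.cardC]
    exact Nat.le_of_dvd Nat.card_pos h54
  have hC : D.C ≤ D.P := fun y hy => (hK.symm.le hy).2
  rcases (D.mem_B_iff x).mp hx with e | e
  · exact hC (subgroupCent_mem.mpr (mul_inv_eq_iff_eq_mul.mp e))
  · have hmem : x * D.s ∈ D.C := subgroupCent_mem.mpr (mul_inv_eq_iff_eq_mul.mp (by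
      calc x * D.s * D.z * (x * D.s)⁻¹ = x * (D.s * D.z * D.s⁻¹) * x⁻¹ := by group
        _ = (x * D.z * x⁻¹)⁻¹ := by rw [D.hsz]; group
        _ = D.z := by rw [e, inv_inv]))
    have := mul_mem (hC hmem) (inv_mem D.s_mem_P)
    rwa [mul_inv_cancel_right] at this

/-- No subgroup of order 216 contains the Borel subgroup. -/
theorem Borel.no216 {K : Subgroup G} (hB : D.B ≤ K) : Nat.card K ≠ 216 := by
  classical
  haveI : Fact (Nat.Prime 3) := ⟨Nat.prime_three⟩
  intro hK
  have hUK : (D.U : Subgroup G) ≤ K := D.U_le_B.trans hB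
  let V : Sylow 3 K := D.U.subtype hUK
  have hVn : Subgroup.normalizer ((V : Subgroup K) : Set K) =
      (Subgroup.normalizer ((D.U : Subgroup G) : Set G)).subgroupOf K := by
    ext x
    simp only [Subgroup.mem_normalizer_iff, Subgroup.mem_subgroupOf, V, Sylow.coe_subtype]
    refine ⟨fun h y => ⟨fun hy => ?_, fun hy => ?_⟩, fun h y => ?_⟩
    · exact (h ⟨y, hUK hy⟩).mp hy
    · have hyK : y ∈ K := by
        have := K.mul_mem (K.mul_mem (K.inv_mem x.2) (hUK hy)) x.2
        rwa [show (x : G)⁻¹ * ((x : G) * y * (x : G)⁻¹) * x = y by group] at this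
      exact (h ⟨y, hyK⟩).mpr hy
    · exact h (y : G)
  have hn : Nat.card (Sylow 3 K) * Nat.card ↥(Subgroup.normalizer ((V : Subgroup K) : Set K)) = 216 := by
    rw [V.card_eq_index_normalizer, mul_comm, ← hK]
    exact Subgroup.card_mul_index _
  have hmod : Nat.card (Sylow 3 K) % 3 = 1 := card_sylow_modEq_one 3 K
  have hge : 108 ∣ Nat.card ↥(Subgroup.normalizer ((V : Subgroup K) : Set K)) := by
    rw [hVn, ← D.cardB, ← Nat.card_congr (Subgroup.subgroupOfEquivOfLe hB).toEquiv]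
    exact Subgroup.card_dvd_of_le (Subgroup.comap_mono D.B_le_normalizer)
  have h216 : Nat.card ↥(Subgroup.normalizer ((V : Subgroup K) : Set K)) = 216 := by
    obtain ⟨q, hq⟩ := hge
    rw [hq] at hn ⊢
    have : Nat.card (Sylow 3 K) * q = 2 := by
      have h : Nat.card (Sylow 3 K) * (108 * q) = 108 * (Nat.card (Sylow 3 K) * q) := by ring
      omega
    have hle := Nat.le_of_dvd (by norm_num) (Dvd.intro _ this)
    interval_cases hs : Nat.card (Sylow 3 K) <;> omega
  have hle : K ≤ Subgroup.normalizer ((D.U : Subgroup G) : Set G) := by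
    intro x hx
    have := Subgroup.eq_top_of_card_eq _ (h216.trans hK.symm)
    rw [hVn] at this
    exact (this ▸ Subgroup.mem_top (⟨x, hx⟩ : K) :
      (⟨x, hx⟩ : K) ∈ (Subgroup.normalizer ((D.U : Subgroup G) : Set G)).subgroupOf K)
  have h := Subgroup.card_dvd_of_le hle
  rw [hK] at h
  rcases D.normalizer_card with e | e
  · rw [e] at h; norm_num at h
  · exact D.U_not_432 e

theorem Borel.cardP : Nat.card D.P = 432 := by
  classical
  haveI := Fintype.ofFinite G
  haveI : Fact (Nat.Prime 3) := ⟨Nat.prime_three⟩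
  haveI : Fact (Nat.Prime 2) := ⟨Nat.prime_two⟩
  obtain ⟨haU, ha3, hsa, hanz, hfix⟩ := D.a_spec
  have hlt : 108 < Nat.card D.P := by
    by_contra hcon
    push Not at hcon
    have hPB : D.B = D.P := Subgroup.eq_of_le_of_card_ge D.B_le_P (by rw [D.cardB]; exact hcon)
    -- a Sylow subgroup centralizing `a`
    obtain ⟨g, hg⟩ := isConj_iff.mp (H.conj3 D.i D.z D.s D.a D.hi D.hz D.hiz D.hs ha3 hsa)
    set V : Subgroup G := (D.U : Subgroup G).map (MulAut.conj g).toMonoidHom with hV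
    have hVa : ∀ v ∈ V, Commute v D.a := by
      rintro _ ⟨u, hu, rfl⟩
      have h := commute_conj (g := g) (D.hc u hu)
      rwa [hg] at h
    set A : Subgroup G := Subgroup.centralizer ({D.a} : Set G) with hA
    have hVA : V ≤ A := fun v hv => subgroupCent_mem.mpr (hVa v hv)
    have hV27 : Nat.card V = 27 := by
      rw [hV, Subgroup.card_map_of_injective (MulAut.conj g).injective]; exact D.cardU
    have hA54 : Nat.card A = 2 * Nat.card V := by
      rw [hV27, show 2 * 27 = Nat.card D.C by rw [D.cardC]]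
      refine Nat.card_congr ((MulAut.conj g⁻¹).toEquiv.subtypeEquiv fun y => ?_)
      simp only [A, Borel.C, Subgroup.mem_centralizer_singleton_iff, MulEquiv.toEquiv_eq_coe, MulEquiv.coe_toEquiv,
        MulAut.conj_apply, inv_inv, ← hg]
      exact ⟨fun e => by
          calc g⁻¹ * y * g * D.z = g⁻¹ * (y * (g * D.z * g⁻¹)) * g := by group
            _ = g⁻¹ * (g * D.z * g⁻¹ * y) * g := by rw [e]
            _ = D.z * (g⁻¹ * y * g) := by group,
        fun e => by
          calc y * (g * D.z * g⁻¹) = g * (g⁻¹ * y * g * D.z) * g⁻¹ := by group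
            _ = g * (D.z * (g⁻¹ * y * g)) * g⁻¹ := by rw [e]
            _ = g * D.z * g⁻¹ * y := by group⟩
    have hEV : D.E ≤ V := fun y hy => pow_mem_of_index_two hVA hA54 hy.2 (D.odd_of_U hy.1)
    have hVP : V ≤ D.P := by
      have hi3 : (D.E.subgroupOf V).index = 3 := by
        have h := (D.E.subgroupOf V).card_mul_index
        rw [Nat.card_congr (Subgroup.subgroupOfEquivOfLe hEV).toEquiv, D.cardE, hV27] at h
        omega
      haveI : (D.E.subgroupOf V).Normal := Subgroup.normal_of_index_eq_minFac_card (by rw [hi3, hV27]; norm_num)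
      exact (Subgroup.normal_subgroupOf_iff_le_normalizer hEV).mp inferInstance
    have hVB : V ≤ D.B := hPB.symm ▸ hVP
    have hVU : V ≤ (D.U : Subgroup G) := fun v hv => by
      refine D.odd_mem ?_ ?_
      · rcases (D.mem_B_iff v).mp (hVB hv) with e | e
        · exact subgroupCent_mem.mpr (mul_inv_eq_iff_eq_mul.mp e)
        · exfalso
          obtain ⟨u, hu, rfl⟩ := hv
          have ho : Odd (orderOf ((MulAut.conj g).toMonoidHom u)) := by
            show Odd (orderOf ((MulAut.conj g) u))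
            rw [MulEquiv.orderOf_eq]; exact D.odd_of_U hu
          exact no_odd_invert D.z_inv_ne ho e
      · obtain ⟨u, hu, rfl⟩ := hv
        show Odd (orderOf ((MulAut.conj g) u))
        rw [MulEquiv.orderOf_eq]; exact D.odd_of_U hu
    obtain ⟨u, hu, hua⟩ := D.not_comm
    exact hua (hVa u ((Subgroup.eq_of_le_of_card_ge hVU (by rw [hV27]; exact D.cardU.le)).symm ▸ hu))
  -- at most 81 cosets of the centralizer
  have hle : Nat.card D.P ≤ 9 * 81 := by
    have hcent : ∀ x y : G, x ∈ D.P → y ∈ D.P → x * D.z * x⁻¹ = y * D.z * y⁻¹ → x * D.a * x⁻¹ = y * D.a * y⁻¹ →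
        y⁻¹ * x ∈ D.E := by
      intro x y hx hy e1 e2
      have hz : Commute (y⁻¹ * x) D.z := by
        show y⁻¹ * x * D.z = D.z * (y⁻¹ * x)
        calc y⁻¹ * x * D.z = y⁻¹ * (x * D.z * x⁻¹) * x := by group
          _ = D.z * (y⁻¹ * x) := by rw [e1]; group
      have ha : Commute (y⁻¹ * x) D.a := by
        show y⁻¹ * x * D.a = D.a * (y⁻¹ * x)
        calc y⁻¹ * x * D.a = y⁻¹ * (x * D.a * x⁻¹) * x := by group
          _ = D.a * (y⁻¹ * x) := by rw [e2]; group
      rw [← D.centE]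
      have hsup : D.E = Subgroup.zpowers D.z ⊔ Subgroup.zpowers D.a := D.E_eq_sup
      refine Subgroup.mem_centralizer_iff.mpr fun e he => ?_
      have : D.E ≤ Subgroup.centralizer ({y⁻¹ * x} : Set G) := by
        rw [hsup]
        exact sup_le (Subgroup.zpowers_le.mpr (subgroupCent_mem.mpr hz.symm))
          (Subgroup.zpowers_le.mpr (subgroupCent_mem.mpr ha.symm))
      exact (mem_cent (this he)).eq
    let S : Finset G := Finset.univ.filter fun x => x ∈ D.P
    let R : Finset G := Finset.univ.filter fun x => x ∈ D.E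
    have hR : R.card = 9 := by
      rw [← Fintype.card_subtype, ← Nat.card_eq_fintype_card]; exact D.cardE
    have h := Finset.card_le_mul_card_image (f := fun x => (x * D.z * x⁻¹, x * D.a * x⁻¹)) S 9 fun o ho => by
      obtain ⟨y, hy, rfl⟩ := Finset.mem_image.mp ho
      rw [← hR]
      refine Finset.card_le_card_of_injOn (fun x => y⁻¹ * x) ?_ ((mul_right_injective y⁻¹).injOn)
      intro x hx
      simp only [S, R, Finset.coe_filter, Finset.mem_filter, Finset.mem_univ, true_and, Set.mem_setOf_eq,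
        Prod.mk.injEq] at hx hy ⊢
      exact hcent x y hx.1 hy hx.2.1 hx.2.2
    have himg : S.image (fun x => (x * D.z * x⁻¹, x * D.a * x⁻¹)) ⊆ R ×ˢ R := by
      intro o ho
      obtain ⟨x, hx, rfl⟩ := Finset.mem_image.mp ho
      simp only [S, R, Finset.mem_filter, Finset.mem_univ, true_and, Finset.mem_product] at hx ⊢
      exact ⟨(Subgroup.mem_normalizer_iff.mp hx _).mp D.zE, (Subgroup.mem_normalizer_iff.mp hx _).mp D.aE⟩
    have h2 := Finset.card_le_card himg
    rw [Finset.card_product, hR] at h2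
    have hS : S.card = Nat.card D.P := by
      rw [← Fintype.card_subtype, ← Nat.card_eq_fintype_card]
    omega
  have hd := Subgroup.card_dvd_of_le D.B_le_P
  rw [D.cardB] at hd
  obtain ⟨q, hq⟩ := hd
  have hdv : Nat.card D.P ∣ 5616 := H.five616_dvd
  rw [hq] at hdv hlt hle
  have hq52 : q ∣ 52 := by
    rw [show 5616 = 108 * 52 by norm_num] at hdv
    exact Nat.dvd_of_mul_dvd_mul_left (by norm_num) hdv
  rcases (by decide +kernel : ∀ m ∈ Nat.divisors 52, 108 < 108 * m → 108 * m ≤ 9 * 81 → m = 2 ∨ m = 4) q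
    (Nat.mem_divisors.mpr ⟨hq52, by norm_num⟩) hlt hle with e | e
  · exact absurd (hq.trans (by rw [e])) (D.no216 D.B_le_P)
  · rw [hq, e]

/-- Two parabolic subgroups meeting in a Borel subgroup. -/
theorem Hyp.exists_parabolics (H : Hyp G) :
    ∃ P L : Subgroup G, Nat.card P = 432 ∧ Nat.card L = 432 ∧ Nat.card ↥(P ⊓ L) = 108 := by
  classical
  obtain ⟨D⟩ := H.exists_borel
  refine ⟨D.P, D.swap.P, D.cardP, D.swap.cardP, ?_⟩
  have hBK : D.B ≤ D.P ⊓ D.swap.P := le_inf D.B_le_P D.swap.B_le_P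
  have h1 := Subgroup.card_dvd_of_le hBK
  have h2 := Subgroup.card_dvd_of_le (inf_le_left : D.P ⊓ D.swap.P ≤ D.P)
  rw [D.cardB] at h1
  rw [D.cardP] at h2
  rcases (by decide +kernel : ∀ m ∈ Nat.divisors 432, 108 ∣ m → m = 108 ∨ m = 216 ∨ m = 432) _
    (Nat.mem_divisors.mpr ⟨h2, by norm_num⟩) h1 with h | h | h
  · exact h
  · exact absurd h (D.no216 hBK)
  · exfalso
    have hPL : D.P ≤ D.swap.P := by
      have e := Subgroup.eq_of_le_of_card_ge (inf_le_left : D.P ⊓ D.swap.P ≤ D.P) (by rw [h, D.cardP])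
      exact fun x hx => (e.symm.le hx).2
    -- the two elementary subgroups differ and generate the Sylow subgroup
    have hne : ¬ D.swap.E ≤ D.E := by
      intro hle
      have hab : Commute D.swap.a D.a := (D.E_comm (hle D.swap.aE) D.aE)
      have hz2 : D.i * D.s * D.a * (D.i * D.s)⁻¹ = D.a⁻¹ := by
        calc D.i * D.s * D.a * (D.i * D.s)⁻¹ = D.i * (D.s * D.a * D.s⁻¹) * D.i⁻¹ := by group
          _ = D.a⁻¹ := by rw [D.a_spec.2.2.1.eq, mul_inv_cancel_right, D.i_a]
      have hsub : D.E ≤ Subgroup.centralizer ({D.swap.a} : Set G) := fun y hy =>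
        subgroupCent_mem.mpr (D.E_comm hy (hle D.swap.aE))
      -- the elements of `E` inverted by `i * s` form all of it
      let J : Subgroup G :=
        { carrier := {y | y ∈ D.E ∧ D.i * D.s * y * (D.i * D.s)⁻¹ = y⁻¹}
          one_mem' := ⟨one_mem _, by simp⟩
          mul_mem' := fun {x y} hx hy => ⟨mul_mem hx.1 hy.1, by
            rw [← conj_mul, hx.2, hy.2, mul_inv_rev, (D.E_comm hx.1 hy.1).inv_inv.eq]⟩
          inv_mem' := fun {x} hx => ⟨inv_mem hx.1, by rw [← conj_inv, hx.2]⟩ }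
      have hJ : D.E ≤ J := by
        rw [D.E_eq_sup]
        exact sup_le (Subgroup.zpowers_le.mpr ⟨D.zE, D.swap.hsz⟩) (Subgroup.zpowers_le.mpr ⟨D.aE, hz2⟩)
      have h1 := (hJ (hle D.swap.aE)).2
      have hfix : D.i * D.s * D.swap.a * (D.i * D.s)⁻¹ = D.swap.a :=
        mul_inv_eq_iff_eq_mul.mpr D.swap.a_spec.2.2.1.eq
      rw [hfix] at h1
      have : D.swap.a ^ 2 = 1 := by rw [pow_two]; nth_rewrite 2 [h1]; rw [mul_inv_cancel]
      have := orderOf_dvd_of_pow_eq_one this
      rw [D.swap.a_spec.2.1] at this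
      norm_num at this
    have hU : (D.U : Subgroup G) = D.E ⊔ D.swap.E := by
      refine (Subgroup.eq_of_le_of_card_ge (sup_le inf_le_left inf_le_left) ?_).symm
      have hd := Subgroup.card_dvd_of_le (le_sup_left : D.E ≤ D.E ⊔ D.swap.E)
      have hd2 := Subgroup.card_dvd_of_le (sup_le inf_le_left inf_le_left : D.E ⊔ D.swap.E ≤ (D.U : Subgroup G))
      rw [D.cardE] at hd
      rw [show Nat.card (D.U : Subgroup G) = 27 from D.cardU] at hd2 ⊢
      rcases (by decide +kernel : ∀ m ∈ Nat.divisors 27, 9 ∣ m → m = 9 ∨ m = 27) _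
        (Nat.mem_divisors.mpr ⟨hd2, by norm_num⟩) hd with e | e
      · refine absurd ?_ hne
        have := Subgroup.eq_of_le_of_card_ge (le_sup_left : D.E ≤ D.E ⊔ D.swap.E) (by rw [e, D.cardE])
        exact fun y hy => this.symm.le ((le_sup_right : D.swap.E ≤ _) hy)
      · exact e.ge
    have hle : D.P ≤ Subgroup.normalizer ((D.U : Subgroup G) : Set G) := by
      intro x hx
      rw [Subgroup.mem_normalizer_iff_map_conj_eq] at *
      rw [hU, Subgroup.map_sup]
      rw [Subgroup.mem_normalizer_iff_map_conj_eq.mp hx, Subgroup.mem_normalizer_iff_map_conj_eq.mp (hPL hx)]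
    rcases D.normalizer_card with e | e
    · have := Subgroup.card_le_of_le hle
      rw [D.cardP, e] at this
      norm_num at this
    · exact D.U_not_432 e

end CfsgLib.L33Invol
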